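import Groth.Agent.FPLocal.OpensPt

/-!
# Bases of sheaves of modules over objects
-/

set_option linter.style.haveILetI false
set_option linter.unusedSectionVars false
set_option backward.isDefEq.respectTransparency false
set_option backward.isDefEq.respectTransparency.types false

universe u

open CategoryTheory Limits Opposite

noncomputable section

namespace Groth.Agent.FPLocal

section Site

variable {C : Type u} [SmallCategory C] {J : GrothendieckTopology C} (O : Sheaf J CommRingCat.{u})
  (M : ModSite.Mod O)

/-- Restriction of functions. -/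
abbrev ores {W V : C} (g : W ⟶ V) : O.obj.obj (op V) →+* O.obj.obj (op W) := (O.obj.map g.op).hom

theorem ores_comp {Z W V : C} (k : Z ⟶ W) (g : W ⟶ V) (r : O.obj.obj (op V)) :
    ores O (k ≫ g) r = ores O k (ores O g r) :=
  ConcreteCategory.congr_hom (O.obj.map_comp g.op k.op) r

/-- Combinations of sections, with commutative coefficients. -/
def comb {V : C} {I : Type u} [Fintype I] (a : I → O.obj.obj (op V))
    (s : I → ModSite.sect M V) : ModSite.sect M V :=
  ∑ i, (show (ModSite.ringSh O).obj.obj (op V) from a i) • s i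

variable {O M}

theorem comb_eq {V : C} {I : Type u} [Fintype I] (a : I → (ModSite.ringSh O).obj.obj (op V))
    (s : I → ModSite.sect M V) : ∑ i, a i • s i = comb O M a s := rfl

theorem comb_zero {V : C} {I : Type u} [Fintype I] (s : I → ModSite.sect M V) :
    comb O M (0 : I → O.obj.obj (op V)) s = 0 :=
  Finset.sum_eq_zero fun i _ => zero_smul _ (s i)

theorem comb_sub {V : C} {I : Type u} [Fintype I] (a b : I → O.obj.obj (op V))
    (s : I → ModSite.sect M V) : comb O M (a - b) s = comb O M a s - comb O M b s :=
  (Finset.sum_congr rfl fun i _ => sub_smul _ _ (s i)).trans (Finset.sum_sub_distrib _ _)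

theorem comb_single {V : C} {I : Type u} [Fintype I] [DecidableEq I]
    (s : I → ModSite.sect M V) (l : I) :
    comb O M (fun i => if i = l then (1 : O.obj.obj (op V)) else 0) s = s l := by
  refine (Finset.sum_eq_single l (fun i _ hi => ?_) (by simp)).trans ?_
  · show (if i = l then (1 : O.obj.obj (op V)) else 0 : O.obj.obj (op V)) • _ = _
    rw [if_neg hi]
    exact zero_smul ((ModSite.ringSh O).obj.obj (op V)) (s i)
  · show (if l = l then (1 : O.obj.obj (op V)) else 0 : O.obj.obj (op V)) • _ = _
    rw [if_pos rfl]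
    exact one_smul ((ModSite.ringSh O).obj.obj (op V)) (s l)

theorem mres_comb {W V : C} (g : W ⟶ V) {I : Type u} [Fintype I] (a : I → O.obj.obj (op V))
    (s : I → ModSite.sect M V) :
    mres M g.op (comb O M a s) = comb O M (fun i => ores O g (a i)) fun i => mres M g.op (s i) :=
  (map_sum _ _ _).trans (Finset.sum_congr rfl fun _ _ => mres_smul _ _ _)

theorem app_comb {N : ModSite.Mod O} (φ : M ⟶ N) {V : C} {I : Type u} [Fintype I]
    (a : I → O.obj.obj (op V)) (s : I → ModSite.sect M V) :
    (φ.val.app (op V)).hom (comb O M a s) = comb O N a fun i => (φ.val.app (op V)).hom (s i) :=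
  (map_sum _ _ _).trans (Finset.sum_congr rfl fun _ _ => map_smul _ _ _)

theorem comb_comb {V : C} {I K : Type u} [Fintype I] [Fintype K] (a : I → O.obj.obj (op V))
    (A : I → K → O.obj.obj (op V)) (s : K → ModSite.sect M V) :
    comb O M a (fun i => comb O M (A i) s) = comb O M (fun k => ∑ i, a i * A i k) s := by
  simp only [comb, Finset.smul_sum, smul_smul]
  rw [Finset.sum_comm]
  exact Finset.sum_congr rfl fun k _ => (Finset.sum_smul
    (f := fun i => (show (ModSite.ringSh O).obj.obj (op V) from a i * A i k))).symm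

/-- `s` is a basis of `M` over `V`. -/
def IsBasisOver (M : ModSite.Mod O) {V : C} {I : Type u} [Fintype I] (s : I → ModSite.sect M V) :
    Prop :=
  Gen M s ∧ ∀ ⦃W : C⦄ (g : W ⟶ V) (d : I → O.obj.obj (op W)),
    comb O M d (fun i => mres M g.op (s i)) = 0 → d = 0

theorem IsBasisOver.restrict {V W : C} (g : W ⟶ V) {I : Type u} [Fintype I]
    {s : I → ModSite.sect M V} (h : IsBasisOver M s) :
    IsBasisOver M fun i => mres M g.op (s i) :=
  ⟨h.1.restrict g, fun Z k d hd => h.2 (k ≫ g) d
    (Eq.trans (congrArg (comb O M d) (funext fun i => mres_comp' k g (s i))) hd)⟩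

theorem IsBasisOver.coeff_eq {V : C} {I : Type u} [Fintype I] {s : I → ModSite.sect M V}
    (h : IsBasisOver M s) (a b : I → O.obj.obj (op V)) (e : comb O M a s = comb O M b s) :
    a = b := by
  have hs : (fun i => mres M (𝟙 V).op (s i)) = s := funext fun i => mres_id M (s i)
  refine sub_eq_zero.1 (h.2 (𝟙 V) (a - b) ?_)
  rw [hs, comb_sub, e, sub_self]

theorem IsBasisOver.nonempty_iso {V : C} {I : Type u} [Fintype I] {s : I → ModSite.sect M V}
    (h : IsBasisOver M s) :
    Nonempty ((ModSite.restr O V).obj M ≅ SheafOfModules.free I) := by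
  haveI := h.1.epi
  haveI : Mono (freeHomMk M s) := mono_of_locally_zero _ fun U z hz => by
    obtain ⟨d, rfl⟩ := exists_eq_sum_basis U z
    rw [app_sum_basis] at hz
    have hd : d = 0 := h.2 U.hom d
      (Eq.trans (Finset.sum_congr rfl fun i _ => congrArg (d i • ·)
        (basisVal_freeHomMk (M := M) s i U.hom).symm) hz)
    refine Locally.of_self fun W g => ?_
    rw [hd]
    refine (congrArg _ (Finset.sum_eq_zero fun i _ => ?_)).trans (map_zero _)
    exact zero_smul _ _
  haveI := isIso_of_mono_of_epi (freeHomMk M s)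
  exact ⟨(asIso (freeHomMk M s)).symm⟩

theorem isBasisOver_of_iso {V : C} {I : Type u} [Fintype I]
    (e : (ModSite.restr O V).obj M ≅ SheafOfModules.free I) :
    ∃ s : I → ModSite.sect M V, IsBasisOver M s := by
  refine ⟨fun i => val₁ M (SheafOfModules.ιFree i ≫ e.inv), ?_⟩
  have he : freeHomMk M (fun i => val₁ M (SheafOfModules.ιFree i ≫ e.inv)) = e.inv :=
    free_hom_ext fun i => val₁_injective M (val₁_ιFree_freeHomMk _ i)
  refine ⟨?_, fun W g d hd => ?_⟩
  · haveI : Epi (freeHomMk M (fun i => val₁ M (SheafOfModules.ιFree i ≫ e.inv))) := by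
      rw [he]; infer_instance
    exact gen_of_epi _
  · refine basis_coeff_unique (I := I) (T := (ModSite.ringSh O).over V) (Over.mk g) d 0 ?_
    refine app_injective_of_mono e.inv (Over.mk g) ?_
    rw [app_sum_basis, app_sum_basis]
    refine Eq.trans (Finset.sum_congr rfl fun i _ => congrArg (d i • ·) ?_)
      (hd.trans (Finset.sum_eq_zero fun i _ => zero_smul _ _).symm)
    exact (congrArg (fun φ => basisVal φ i (Over.mk g)) he.symm).trans
      (basisVal_freeHomMk (M := M) _ i g)

/-- Reindexing a basis by `ULift (Fin n)`. -/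
theorem IsBasisOver.reindex {V : C} {I K : Type u} [Fintype I] [Fintype K]
    {s : I → ModSite.sect M V} (h : IsBasisOver M s) (e : K ≃ I) :
    IsBasisOver M fun k => s (e k) := by
  refine ⟨fun W g m => ?_, fun W g d hd => ?_⟩
  · obtain ⟨S, hS, hS'⟩ := h.1 g m
    refine ⟨S, hS, fun Z k hk => ?_⟩
    obtain ⟨a, ha⟩ := hS' k hk
    exact ⟨fun j => a (e j), (e.sum_comp fun i => a i • mres M (k ≫ g).op (s i)).trans ha⟩
  · have h0 := h.2 g (fun i => d (e.symm i)) (by
      refine Eq.trans ?_ hd
      refine (e.sum_comp fun i => (show (ModSite.ringSh O).obj.obj (op W) from d (e.symm i)) •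
        mres M g.op (s i)).symm.trans ?_
      exact Finset.sum_congr rfl fun j _ => by rw [Equiv.symm_apply_apply])
    funext j
    have := congrFun h0 (e j)
    simpa using this

end Site

end Groth.Agent.FPLocal
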