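import Groth.Agent.FPLocal.Glue
import Groth.Agent.ModTensor.StalkFlat
import Mathlib.Topology.Sheaves.Points

/-!
# Neighbourhoods and germs on the site of opens of a space
-/

set_option linter.style.haveILetI false
set_option linter.unusedSectionVars false
set_option backward.isDefEq.respectTransparency false
set_option backward.isDefEq.respectTransparency.types false

universe u

open CategoryTheory Limits Opposite TopologicalSpace

noncomputable section

namespace Groth.Agent.FPLocal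

variable {X : TopCat.{u}}

/-- `P` holds on some neighbourhood of `x` inside `U`. -/
def Near (x : X) (U : Opens X) (P : ∀ ⦃W : Opens X⦄, (W ⟶ U) → Prop) : Prop :=
  ∃ (W : Opens X) (g : W ⟶ U), x ∈ W ∧ P g

theorem Locally.near {U : Opens X} {P : ∀ ⦃W : Opens X⦄, (W ⟶ U) → Prop}
    (h : Locally (Opens.grothendieckTopology X) U P) {x : X} (hx : x ∈ U) : Near x U P := by
  obtain ⟨S, hS, h⟩ := h
  obtain ⟨W, g, hg, hW⟩ := (Opens.mem_grothendieckTopology X).1 hS x hx
  exact ⟨W, g, hW, h g hg⟩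

theorem locally_of_near {U : Opens X} {P : ∀ ⦃W : Opens X⦄, (W ⟶ U) → Prop}
    (hP : ∀ ⦃V W : Opens X⦄ (k : V ⟶ W) (g : W ⟶ U), P g → P (k ≫ g))
    (h : ∀ x ∈ U, Near x U P) : Locally (Opens.grothendieckTopology X) U P := by
  refine ⟨⟨fun V g => P g, fun {V W} g hg k => hP k g hg⟩, ?_, fun W g hg => hg⟩
  intro x hx
  obtain ⟨W, g, hW, hg⟩ := h x hx
  exact ⟨W, g, hg, hW⟩

theorem Near.forall {x : X} {U : Opens X} (hx : x ∈ U) {ι : Type*} [Finite ι]
    {P : ι → ∀ ⦃W : Opens X⦄, (W ⟶ U) → Prop}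
    (hP : ∀ i ⦃V W : Opens X⦄ (k : V ⟶ W) (g : W ⟶ U), P i g → P i (k ≫ g))
    (h : ∀ i, Near x U (P i)) : Near x U fun _ g => ∀ i, P i g := by
  classical
  haveI := Fintype.ofFinite ι
  choose W g hW hg using h
  let V : Opens X := ⟨(U : Set X) ∩ ⋂ i, (W i : Set X),
    U.2.inter (isOpen_iInter_of_finite fun i => (W i).2)⟩
  let k : V ⟶ U := homOfLE fun y hy => hy.1
  refine ⟨V, k, ⟨hx, Set.mem_iInter.2 hW⟩, fun i => ?_⟩
  have e : k = (homOfLE (fun y hy => Set.mem_iInter.1 hy.2 i) : V ⟶ W i) ≫ g i :=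
    Subsingleton.elim _ _
  rw [e]
  exact hP i _ _ (hg i)

/-- The point of the site of opens at `x`. -/
abbrev pt (x : X) : GrothendieckTopology.Point.{u} (Opens.grothendieckTopology X) :=
  Opens.pointGrothendieckTopology x

/-- The element of the fiber of `U` given by `x ∈ U`. -/
def fib {x : X} {U : Opens X} (hx : x ∈ U) : (pt x).fiber.obj U := ⟨⟨hx⟩⟩

theorem fib_mem {x : X} {U : Opens X} (y : (pt x).fiber.obj U) : x ∈ U := y.down.down

variable {O : TopCat.Sheaf CommRingCat.{u} X} (F : ModSite.Mod O)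

/-- The germ at `x` of a section. -/
def germ {x : X} {U : Opens X} (hx : x ∈ U) : ModSite.sect F U →+ ModSite.stalkMod (pt x) F :=
  ModTensor.germHom (pt x) F U (fib hx)

theorem germ_mres {x : X} {U W : Opens X} (g : W ⟶ U) (hW : x ∈ W) (s : ModSite.sect F U) :
    germ F hW (mres F g.op s) = germ F (g.le hW) s :=
  ModTensor.germHom_res (pt x) F g (fib hW) s

theorem exists_germ (x : X) (z : ModSite.stalkMod (pt x) F) :
    ∃ (U : Opens X) (hx : x ∈ U) (s : ModSite.sect F U), germ F hx s = z := by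
  obtain ⟨U, u, s, h⟩ :=
    (pt x).toPresheafFiber_jointly_surjective (P := (ModSite.toAb F).obj) z
  exact ⟨U, fib_mem u, s, h⟩

theorem near_of_germ_eq {x : X} {U : Opens X} (hx : x ∈ U) (s t : ModSite.sect F U)
    (h : germ F hx s = germ F hx t) :
    Near x U fun _ g => mres F g.op s = mres F g.op t := by
  obtain ⟨W, g, w, _, hw⟩ :=
    ((pt x).toPresheafFiber_eq_iff' (P := (ModSite.toAb F).obj) U (fib hx) s t).1 h
  exact ⟨W, g, fib_mem w, hw⟩

theorem stalkMap_germ {G : ModSite.Mod O} (φ : F ⟶ G) {x : X} {U : Opens X} (hx : x ∈ U)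
    (s : ModSite.sect F U) :
    (ModSite.stalkMap (pt x) φ).hom (germ F hx s) = germ G hx ((φ.val.app (op U)).hom s) :=
  (pt x).toPresheafFiber_naturality_apply
    ((SheafOfModules.toSheaf (ModSite.ringSh O)).map φ).hom U (fib hx) s

theorem exists_finite_cover {U : Opens X} (hU : IsCompact (U : Set X))
    {P : ∀ ⦃W : Opens X⦄, (W ⟶ U) → Prop} (h : ∀ x ∈ U, Near x U P) :
    ∃ (ι : Type u) (_ : Fintype ι) (W : ι → Opens X) (g : ∀ a, W a ⟶ U),
      (∀ x ∈ U, ∃ a, x ∈ W a) ∧ ∀ a, P (g a) := by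
  classical
  choose W g hW hg using fun x : {x : X // x ∈ U} => h x.1 x.2
  obtain ⟨A, hA⟩ := hU.elim_finite_subcover (fun x => (W x : Set X)) (fun x => (W x).2)
    (fun x hx => Set.mem_iUnion.2 ⟨⟨x, hx⟩, hW ⟨x, hx⟩⟩)
  refine ⟨{x // x ∈ A}, inferInstance, fun a => W a.1, fun a => g a.1, fun x hx => ?_,
    fun a => hg a.1⟩
  obtain ⟨a, ha, hxa⟩ := Set.mem_iUnion₂.1 (hA hx)
  exact ⟨⟨a, ha⟩, hxa⟩

/-- Agreement on the members of an open cover is agreement. -/
theorem eq_of_cover {U : Opens X} {ι : Type*} (W : ι → Opens X) (g : ∀ a, W a ⟶ U)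
    (hcov : ∀ x ∈ U, ∃ a, x ∈ W a) {m n : ModSite.sect F U}
    (h : ∀ a, mres F (g a).op m = mres F (g a).op n) : m = n := by
  refine eq_of_locally (M := F) (locally_of_near (fun V W k g hg => ?_) fun x hx => ?_)
  · rw [mres_comp', hg, ← mres_comp']
  · obtain ⟨a, ha⟩ := hcov x hx
    exact ⟨W a, g a, ha, h a⟩

end Groth.Agent.FPLocal
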