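import Groth.Agent.FPLocal.Basis
import Mathlib.LinearAlgebra.Matrix.NonsingularInverse

/-!
# Epimorphisms between locally free modules of equal rank
-/

set_option linter.style.haveILetI false
set_option linter.unusedSectionVars false
set_option backward.isDefEq.respectTransparency false
set_option backward.isDefEq.respectTransparency.types false

universe u

open CategoryTheory Limits Opposite

noncomputable section

namespace Groth.Agent.FPLocal

variable {C : Type u} [SmallCategory C] {J : GrothendieckTopology C} {O : Sheaf J CommRingCat.{u}}
  {F G : ModSite.Mod O}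

/-- Coefficients with respect to generators, locally. -/
theorem Gen.locally_comb {V : C} {I : Type u} [Fintype I] {s : I → ModSite.sect F V}
    (hs : Gen F s) (m : ModSite.sect F V) :
    Locally J V fun W g => ∃ a : I → O.obj.obj (op W),
      comb O F a (fun i => mres F g.op (s i)) = mres F g.op m :=
  (hs.locally (𝟙 V) m).mono fun W g ⟨a, ha⟩ => ⟨a, by rw [Category.comp_id] at ha; exact ha⟩

theorem zero_of_epi_of_basis (φ : F ⟶ G) [Epi φ] {V : C} {I : Type u} [Fintype I]
    {e : I → ModSite.sect F V} (he : IsBasisOver F e) {f : I → ModSite.sect G V}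
    (hf : IsBasisOver G f) (m : ModSite.sect F V) (hm : (φ.val.app (op V)).hom m = 0) :
    Locally J V fun W g => mres F g.op m = 0 := by
  classical
  refine (((Locally.forall fun j => hf.1.locally_comb ((φ.val.app (op V)).hom (e j))).and
    (Locally.forall fun l => locally_preimage φ (f l))).and (he.1.locally_comb m)).bind
      fun W g hg => ?_
  obtain ⟨⟨hA, ht⟩, d, hd⟩ := hg
  choose A hA using hA
  choose t ht using ht
  refine (Locally.forall fun l => (he.1.restrict g).locally_comb (t l)).mono fun Z k hk => ?_
  choose B hB using hk
  let e' := fun j => mres F (k ≫ g).op (e j)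
  let f' := fun l => mres G (k ≫ g).op (f l)
  let A' : Matrix I I (O.obj.obj (op Z)) := fun j l => ores O k (A j l)
  let B' : Matrix I I (O.obj.obj (op Z)) := B
  let d' : I → O.obj.obj (op Z) := fun j => ores O k (d j)
  have hf' : IsBasisOver G f' := hf.restrict (k ≫ g)
  have hφe : ∀ j, (φ.val.app (op Z)).hom (e' j) = comb O G (A' j) f' := fun j => by
    refine (app_mres φ (k ≫ g) (e j)).trans ?_
    rw [mres_comp', ← hA, mres_comb]
    exact congrArg (comb O G _) (funext fun l => (mres_comp' k g (f l)).symm)
  have hBA : B' * A' = 1 := by
    funext l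
    refine hf'.coeff_eq _ _ ?_
    refine Eq.trans ?_ ((comb_single f' l).symm.trans (congrArg (fun a => comb O G a f')
      (funext fun i => by
        by_cases h : i = l
        · subst h; simp
        · simp [Matrix.one_apply_ne (Ne.symm h), h])))
    refine (comb_comb (B' l) A' f').symm.trans ?_
    rw [← funext hφe, ← app_comb]
    have : comb O F (B' l) e' = mres F k.op (t l) := by
      rw [← hB l]
      exact congrArg (comb O F _) (funext fun j => mres_comp' k g (e j))
    rw [this, app_mres, ht, ← mres_comp']
  have hAB : A' * B' = 1 := mul_eq_one_comm.1 hBA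
  have hdm : comb O F d' e' = mres F (k ≫ g).op m := by
    rw [mres_comp' k g m, ← hd, mres_comb]
    exact congrArg (comb O F _) (funext fun j => mres_comp' k g (e j))
  have hdA : Matrix.vecMul d' A' = 0 := by
    refine hf'.coeff_eq _ _ ?_
    rw [comb_zero]
    refine (comb_comb d' A' f').symm.trans ?_
    rw [← funext hφe, ← app_comb, hdm, app_mres, hm, map_zero]
  have hd0 : d' = 0 := by
    rw [← Matrix.vecMul_one d', ← hAB, ← Matrix.vecMul_vecMul, hdA, Matrix.zero_vecMul]
  rw [← hdm, hd0, comb_zero]

end Groth.Agent.FPLocal
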