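import Groth.Agent.FPLocal.Lift

/-!
# Epimorphisms out of finite free modules, and exactness on sections
-/

set_option linter.style.haveILetI false
set_option backward.isDefEq.respectTransparency false
set_option backward.isDefEq.respectTransparency.types false

universe u

open CategoryTheory Limits Opposite

noncomputable section

namespace Groth.Agent.FPLocal

variable {C : Type u} [SmallCategory C] {J : GrothendieckTopology C} {R : Sheaf J RingCat.{u}}
  {M N : SheafOfModules.{u} R} {I : Type u}

/-- The values of a morphism out of a free module on the basis. -/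
def basisVal (ψ : SheafOfModules.free I ⟶ M) (i : I) (U : C) : M.val.obj (op U) :=
  gval (SheafOfModules.ιFree i ≫ ψ) U

theorem mres_basisVal (ψ : SheafOfModules.free I ⟶ M) (i : I) {W U : C} (g : W ⟶ U) :
    mres M g.op (basisVal ψ i U) = basisVal ψ i W :=
  mres_gval _ g

theorem app_eq_smul_gval (u : SheafOfModules.unit R ⟶ M) (U : C) (r : R.obj.obj (op U)) :
    (u.val.app (op U)).hom r = r • gval u U := by
  conv_lhs => rw [← mul_one r]
  exact map_smul (u.val.app (op U)).hom r (1 : R.obj.obj (op U))

theorem app_basisVal_id (ψ : SheafOfModules.free I ⟶ M) (i : I) (U : C) :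
    (ψ.val.app (op U)).hom (basisVal (𝟙 _) i U) = basisVal ψ i U := rfl

theorem app_sum_hom {ι : Type*} (s : Finset ι) (f : ι → (M ⟶ N)) (U : C) (m : M.val.obj (op U)) :
    ((∑ i ∈ s, f i).val.app (op U)).hom m = ∑ i ∈ s, ((f i).val.app (op U)).hom m :=
  map_sum (AddMonoidHom.mk' (fun g : M ⟶ N => (g.val.app (op U)).hom m) fun _ _ => rfl) f s

/-- Every section of a finite free module is a combination of the basis. -/
theorem exists_eq_sum_basis [Fintype I] (U : C)
    (t : (SheafOfModules.free (R := R) I).val.obj (op U)) :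
    ∃ a : I → R.obj.obj (op U), t = ∑ i, a i • basisVal (𝟙 _) i U := by
  classical
  let x : I → (SheafOfModules.free (R := R) I ⟶ SheafOfModules.unit R) := fun j =>
    freeDesc (fun i => if i = j then 𝟙 (SheafOfModules.unit R) else 0)
  have e := eq_sum_comp_proj (𝟙 (SheafOfModules.free (R := R) I))
  refine ⟨fun j => ((x j).val.app (op U)).hom t, ?_⟩
  have e' : t = ((∑ j, (𝟙 _ ≫ x j) ≫ SheafOfModules.ιFree j).val.app (op U)).hom t :=
    congrArg (fun f : SheafOfModules.free (R := R) I ⟶ SheafOfModules.free I =>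
      (f.val.app (op U)).hom t) e
  refine e'.trans ((app_sum_hom _ _ U t).trans (Finset.sum_congr rfl fun j _ => ?_))
  rw [Category.id_comp]
  refine (app_eq_smul_gval (SheafOfModules.ιFree j) U _).trans ?_
  rw [basisVal, Category.comp_id]
  rfl

/-- The image of a combination of the basis. -/
theorem app_sum_basis [Fintype I] (ψ : SheafOfModules.free I ⟶ M) (U : C)
    (a : I → R.obj.obj (op U)) :
    (ψ.val.app (op U)).hom (∑ i, a i • basisVal (𝟙 _) i U) = ∑ i, a i • basisVal ψ i U := by
  rw [map_sum]
  exact Finset.sum_congr rfl fun i _ => (map_smul _ _ _).trans (congrArg _ (app_basisVal_id ψ i U))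

theorem exists_sum_of_epi [Fintype I] (ψ : SheafOfModules.free I ⟶ M) [Epi ψ] {U : C}
    (m : M.val.obj (op U)) :
    ∃ S ∈ J U, ∀ ⦃W : C⦄ (g : W ⟶ U), S.arrows g →
      ∃ a : I → R.obj.obj (op W), ∑ i, a i • basisVal ψ i W = mres M g.op m := by
  obtain ⟨S, hS, h⟩ := exists_sieve_preimage ψ m
  refine ⟨S, hS, fun W g hg => ?_⟩
  obtain ⟨t, ht⟩ := h g hg
  obtain ⟨a, rfl⟩ := exists_eq_sum_basis W t
  exact ⟨a, (app_sum_basis ψ W a).symm.trans ht⟩

/-- A locally surjective morphism of sheaves of modules is an epimorphism. -/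
theorem epi_of_exists_preimage (p : M ⟶ N)
    (h : ∀ (U : C) (m : N.val.obj (op U)), ∃ S ∈ J U, ∀ ⦃W : C⦄ (g : W ⟶ U), S.arrows g →
      ∃ t : M.val.obj (op W), (p.val.app (op W)).hom t = mres N g.op m) : Epi p := by
  haveI : Sheaf.IsLocallySurjective ((SheafOfModules.toSheaf.{u} R).map p) := ⟨fun {U} m => by
    obtain ⟨S, hS, hS'⟩ := h U m
    refine J.superset_covering (fun W g hg => ?_) hS
    obtain ⟨t, ht⟩ := hS' g hg
    exact ⟨t, ht⟩⟩
  haveI : Epi ((SheafOfModules.toSheaf.{u} R).map p) :=
    (Sheaf.isLocallySurjective_iff_epi' AddCommGrpCat.{u}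
      ((SheafOfModules.toSheaf.{u} R).map p)).1 inferInstance
  exact (SheafOfModules.toSheaf.{u} R).epi_of_epi_map inferInstance

theorem epi_of_exists_sum [Fintype I] (ψ : SheafOfModules.free I ⟶ M)
    (h : ∀ (U : C) (m : M.val.obj (op U)), ∃ S ∈ J U, ∀ ⦃W : C⦄ (g : W ⟶ U), S.arrows g →
      ∃ a : I → R.obj.obj (op W), ∑ i, a i • basisVal ψ i W = mres M g.op m) : Epi ψ := by
  refine epi_of_exists_preimage ψ fun U m => ?_
  obtain ⟨S, hS, hS'⟩ := h U m
  refine ⟨S, hS, fun W g hg => ?_⟩
  obtain ⟨a, ha⟩ := hS' g hg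
  exact ⟨_, (app_sum_basis ψ W a).trans ha⟩

/-- Sections of a short complex with kernel property. -/
theorem exists_kernel_preimage (f : M ⟶ N) {U : C} (z : M.val.obj (op U))
    (hz : (f.val.app (op U)).hom z = 0) :
    ∃ y : (kernel f).val.obj (op U), ((kernel.ι f).val.app (op U)).hom y = z := by
  let ev := SheafOfModules.evaluation R (op U)
  haveI : PreservesFiniteLimits ev := inferInstance
  haveI : ev.Additive := { map_add := rfl }
  have hS : (ShortComplex.mk (kernel.ι f) f (kernel.condition f)).Exact :=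
    ShortComplex.exact_of_f_is_kernel _ (kernelIsKernel f)
  have h := hS.map_of_mono_of_preservesKernel ev (inferInstanceAs (Mono (kernel.ι f)))
    inferInstance
  exact (ShortComplex.moduleCat_exact_iff _).1 h z hz

/-- Exactness on sections at the left of a short exact sequence. -/
theorem exists_preimage_of_mono_exact (S : ShortComplex (SheafOfModules.{u} R)) (hS : S.Exact)
    [Mono S.f] {U : C} (z : S.X₂.val.obj (op U)) (hz : (S.g.val.app (op U)).hom z = 0) :
    ∃ y : S.X₁.val.obj (op U), (S.f.val.app (op U)).hom y = z := by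
  let ev := SheafOfModules.evaluation R (op U)
  haveI : PreservesFiniteLimits ev := inferInstance
  haveI : ev.Additive := { map_add := rfl }
  have h := hS.map_of_mono_of_preservesKernel ev inferInstance inferInstance
  exact (ShortComplex.moduleCat_exact_iff _).1 h z hz

theorem app_injective_of_mono (f : M ⟶ N) [Mono f] (U : C) :
    Function.Injective (f.val.app (op U)).hom := by
  haveI : Mono ((SheafOfModules.evaluation R (op U)).map f) := inferInstance
  exact (ModuleCat.mono_iff_injective _).1 this

end Groth.Agent.FPLocal
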