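import Groth.Agent.FPLocal.Ops

/-!
# Gluing sections and morphisms of sheaves of modules
-/

set_option linter.style.haveILetI false
set_option linter.unusedSectionVars false
set_option backward.isDefEq.respectTransparency false
set_option backward.isDefEq.respectTransparency.types false

universe u

open CategoryTheory Limits Opposite

noncomputable section

namespace Groth.Agent.FPLocal

variable {C : Type u} [SmallCategory C] {J : GrothendieckTopology C} {R : Sheaf J RingCat.{u}}
  {M N : SheafOfModules.{u} R}

theorem isSheafType (M : SheafOfModules.{u} R) :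
    Presieve.IsSheaf J (M.val.presheaf ⋙ forget AddCommGrpCat.{u}) :=
  (isSheaf_iff_isSheaf_of_type _ _).1
    ((sheafCompose J (forget AddCommGrpCat.{u})).obj ⟨M.val.presheaf, M.isSheaf⟩).property

/-- Sections which agree locally are equal. -/
theorem eq_of_locally {V : C} {m n : M.val.obj (op V)}
    (h : Locally J V fun W g => mres M g.op m = mres M g.op n) : m = n := by
  obtain ⟨S, hS, h⟩ := h
  exact ((isSheafType M).isSeparated S hS).ext fun W g hg => h g hg

/-- A morphism injective on sections up to refinement is a monomorphism. -/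
theorem mono_of_locally_zero (f : M ⟶ N)
    (h : ∀ (V : C) (m : M.val.obj (op V)), (f.val.app (op V)).hom m = 0 →
      Locally J V fun W g => mres M g.op m = 0) : Mono f := by
  refine (SheafOfModules.forget R).mono_of_mono_map ?_
  refine (PresheafOfModules.toPresheaf R.obj).mono_of_mono_map ?_
  refine (NatTrans.mono_iff_mono_app _).2 fun U => ?_
  refine ConcreteCategory.mono_of_injective _ fun a b hab => ?_
  refine sub_eq_zero.1 (eq_of_locally (M := M) ((h U.unop (a - b) ?_).mono fun W g hg => ?_))
  · rw [map_sub, sub_eq_zero]; exact hab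
  · exact hg.trans (map_zero _).symm

/-- A morphism surjective and injective on sections up to refinement is an isomorphism. -/
theorem isIso_of_locally (f : M ⟶ N)
    (hs : ∀ (V : C) (n : N.val.obj (op V)), Locally J V fun W g =>
      ∃ t : M.val.obj (op W), (f.val.app (op W)).hom t = mres N g.op n)
    (hi : ∀ (V : C) (m : M.val.obj (op V)), (f.val.app (op V)).hom m = 0 →
      Locally J V fun W g => mres M g.op m = 0) : IsIso f := by
  haveI := mono_of_locally_zero f hi
  haveI := epi_of_exists_preimage f hs
  exact isIso_of_mono_of_epi f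

/-- Morphisms agreeing on local generators agree. -/
theorem app_eq_of_gen {V : C} {I : Type u} [Fintype I] {s : I → M.val.obj (op V)} (hs : Gen M s)
    (f g : M ⟶ N) (h : ∀ i, (f.val.app (op V)).hom (s i) = (g.val.app (op V)).hom (s i))
    {W : C} (k : W ⟶ V) (m : M.val.obj (op W)) :
    (f.val.app (op W)).hom m = (g.val.app (op W)).hom m := by
  refine eq_of_locally ((hs.locally k m).mono fun Z l hl => ?_)
  obtain ⟨a, ha⟩ := hl
  rw [← app_mres, ← app_mres, ← ha, map_sum, map_sum]
  exact Finset.sum_congr rfl fun i _ => by rw [map_smul, map_smul, app_mres, app_mres, h]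

/-- A functional, linear, locally total relation between sections is the graph of a morphism. -/
theorem exists_hom_of_graph (Γ : ∀ V : C, M.val.obj (op V) → N.val.obj (op V) → Prop)
    (hres : ∀ ⦃V W : C⦄ (g : W ⟶ V) m n, Γ V m n → Γ W (mres M g.op m) (mres N g.op n))
    (hadd : ∀ (V : C) m m' n n', Γ V m n → Γ V m' n' → Γ V (m + m') (n + n'))
    (hsmul : ∀ (V : C) (r : R.obj.obj (op V)) m n, Γ V m n → Γ V (r • m) (r • n))
    (huniq : ∀ (V : C) m n n', Γ V m n → Γ V m n' → n = n')
    (htot : ∀ (V : C) m, Locally J V fun W g => ∃ n, Γ W (mres M g.op m) n) :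
    ∃ f : M ⟶ N, ∀ (V : C) m n, Γ V m n → (f.val.app (op V)).hom m = n := by
  -- the sections determined by the relation
  have key : ∀ (V : C) (m : M.val.obj (op V)), ∃! n : N.val.obj (op V),
      Locally J V fun W g => Γ W (mres M g.op m) (mres N g.op n) := by
    intro V m
    obtain ⟨S, hS, h⟩ := htot V m
    let x : Presieve.FamilyOfElements (N.val.presheaf ⋙ forget AddCommGrpCat.{u}) S.arrows :=
      fun W g hg => (h g hg).choose
    have hx : x.Compatible := by
      intro Y₁ Y₂ Z g₁ g₂ f₁ f₂ h₁ h₂ e
      refine huniq Z _ _ _ (hres g₁ _ _ (h f₁ h₁).choose_spec) ?_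
      rw [← mres_comp', e, mres_comp']
      exact hres g₂ _ _ (h f₂ h₂).choose_spec
    refine ⟨(isSheafType N S hS).amalgamate x hx, ⟨S, hS, fun W g hg => ?_⟩, fun n hn => ?_⟩
    · have e : mres N g.op ((isSheafType N S hS).amalgamate x hx) = x g hg :=
        (isSheafType N S hS).valid_glue hx g hg
      show Γ W _ (mres N g.op ((isSheafType N S hS).amalgamate x hx))
      rw [e]
      exact (h g hg).choose_spec
    · refine eq_of_locally (Locally.mono (hn.and ⟨S, hS, fun W g hg => hg⟩) fun W g hg => ?_)
      exact (huniq W _ _ _ hg.1 (h g hg.2).choose_spec).trans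
        ((isSheafType N S hS).valid_glue hx g hg.2).symm
  choose F hF hF' using key
  let φ : ∀ U : Cᵒᵖ, M.val.obj U →+ N.val.obj U := fun U => AddMonoidHom.mk' (F U.unop) fun m m' =>
    (hF' U.unop (m + m') _ (((hF U.unop m).and (hF U.unop m')).mono fun W g hg => by
      rw [map_add, map_add]; exact hadd W _ _ _ _ hg.1 hg.2)).symm
  have hlin : ∀ (U : Cᵒᵖ) (r : R.obj.obj U) (m : M.val.obj U), φ U (r • m) = r • φ U m :=
    fun U r m => (hF' U.unop (r • m) _ ((hF U.unop m).mono fun W g hg => by
      rw [mres_smul, mres_smul]; exact hsmul W _ _ _ hg)).symm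
  have hnat : ∀ ⦃U U' : Cᵒᵖ⦄ (k : U ⟶ U') (m : M.val.obj U),
      φ U' (mres M k m) = mres N k (φ U m) := fun U U' k m => by
    obtain ⟨S, hS, h⟩ := hF U.unop m
    refine (hF' U'.unop (mres M k m) _ ⟨S.pullback k.unop, J.pullback_stable _ hS,
      fun W g hg => ?_⟩).symm
    have e : Γ W (mres M (g ≫ k.unop).op m) (mres N (g ≫ k.unop).op (F U.unop m)) :=
      h (g ≫ k.unop) hg
    rw [mres_comp', mres_comp'] at e
    exact e
  let f : M ⟶ N :=
    { val :=
        { app := fun U => ModuleCat.ofHom { toFun := φ U, map_add' := map_add _, map_smul' := hlin U }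
          naturality := fun k => by
            ext m
            exact hnat k m } }
  exact ⟨f, fun V m n hn => (hF' V m n
    (Locally.of_self fun W g => hres g m n hn)).symm⟩

end Groth.Agent.FPLocal
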