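import Groth.Agent.FPLocal.Colim
import Groth.Agent.FPLocal.Glue

/-!
# Sections of coproducts of sheaves of modules
-/

set_option linter.style.haveILetI false
set_option linter.unusedSectionVars false
set_option backward.isDefEq.respectTransparency false
set_option backward.isDefEq.respectTransparency.types false

universe u

open CategoryTheory Limits Opposite

noncomputable section

namespace Groth.Agent.FPLocal

theorem eq_top_of_forall_hom {A : Type u} [Ring A] (M : ModuleCat.{u} A) (N : Submodule A M)
    (h : ∀ (P : ModuleCat.{u} A) (q : M ⟶ P), (∀ y ∈ N, q.hom y = 0) → q = 0) : N = ⊤ := by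
  have h0 : N.mkQ = 0 := congrArg ModuleCat.Hom.hom
    (h (ModuleCat.of A (M ⧸ N)) (ModuleCat.ofHom N.mkQ) fun y hy =>
      (Submodule.Quotient.mk_eq_zero N).2 hy)
  rw [← N.ker_mkQ, h0, LinearMap.ker_zero]

/-- Every element of a colimit of modules is a finite sum of images. -/
theorem exists_finsupp_sum_of_isColimit {A : Type u} [Ring A] {I : Type u}
    {F : Discrete I ⥤ ModuleCat.{u} A} {c : Cocone F} (hc : IsColimit c) (m : c.pt) :
    ∃ (S : Finset I) (t : ∀ i, F.obj ⟨i⟩), m = ∑ i ∈ S, (c.ι.app ⟨i⟩).hom (t i) := by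
  classical
  let f : ∀ i, F.obj ⟨i⟩ ⟶ c.pt := fun i => c.ι.app ⟨i⟩
  let N : Submodule A c.pt := ⨆ i : I, LinearMap.range (f i).hom
  have hN : N = ⊤ := eq_top_of_forall_hom c.pt N fun P q hq => hc.hom_ext fun j => by
    obtain ⟨i⟩ := j
    have e : f i ≫ q = f i ≫ 0 := by
      rw [comp_zero]
      refine ModuleCat.hom_ext (LinearMap.ext fun y => ?_)
      exact hq _ (Submodule.mem_iSup_of_mem i ⟨y, rfl⟩)
    exact e
  have hm : m ∈ N := by
    rw [hN]; exact Submodule.mem_top
  obtain ⟨w, hw, rfl⟩ := (Submodule.mem_iSup_iff_exists_finsupp _ m).1 hm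
  choose t ht using hw
  exact ⟨w.support, t, Finset.sum_congr rfl fun i _ => (ht i).symm⟩

variable {C : Type u} [SmallCategory C] {J : GrothendieckTopology C} {R : Sheaf J RingCat.{u}}
  {I : Type u} (F : I → SheafOfModules.{u} R) [HasCoproduct F]

/-- The projection of a coproduct to a summand. -/
def coprodProj [DecidableEq I] (i : I) : ∐ F ⟶ F i :=
  Sigma.desc fun j => if h : j = i then eqToHom (congrArg F h) else 0

theorem coprodProj_ι [DecidableEq I] (i j : I) {V : C} (t : (F j).val.obj (op V)) :
    ((coprodProj F i).val.app (op V)).hom (((Sigma.ι F j).val.app (op V)).hom t) =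
      if h : j = i then ((eqToHom (congrArg F h)).val.app (op V)).hom t else 0 := by
  refine (congrArg (fun f : F j ⟶ F i => (f.val.app (op V)).hom t)
    (Sigma.ι_desc (fun j => if h : j = i then eqToHom (congrArg F h) else 0) j)).trans ?_
  by_cases h : j = i
  · subst h; simp
  · simp only [dif_neg h]; rfl

theorem coprodProj_ι_self [DecidableEq I] (i : I) {V : C} (t : (F i).val.obj (op V)) :
    ((coprodProj F i).val.app (op V)).hom (((Sigma.ι F i).val.app (op V)).hom t) = t := by
  rw [coprodProj_ι, dif_pos rfl]; rfl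

theorem coprodProj_sum [DecidableEq I] {V : C} (S : Finset I) (t : ∀ i, (F i).val.obj (op V))
    (i : I) : ((coprodProj F i).val.app (op V)).hom
      (∑ j ∈ S, ((Sigma.ι F j).val.app (op V)).hom (t j)) = if i ∈ S then t i else 0 := by
  rw [map_sum]
  by_cases hi : i ∈ S
  · rw [if_pos hi, Finset.sum_eq_single i _ (fun h => absurd hi h), coprodProj_ι_self]
    intro j _ hj
    rw [coprodProj_ι, dif_neg hj]
  · rw [if_neg hi]
    refine Finset.sum_eq_zero fun j hj => ?_
    rw [coprodProj_ι, dif_neg (fun h => hi (by subst h; exact hj))]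

/-- Sections of a coproduct are locally finite sums of sections of the summands. -/
theorem locally_exists_finsum {V : C} (m : (∐ F).val.obj (op V)) :
    Locally J V fun W g => ∃ (S : Finset I) (t : ∀ i, (F i).val.obj (op W)),
      mres (∐ F) g.op m = ∑ i ∈ S, ((Sigma.ι F i).val.app (op W)).hom (t i) := by
  let D := Discrete.functor F
  let c := colimit.cocone D
  have hc : IsColimit c := colimit.isColimit _
  haveI := (colimComp_locally_bijective hc).2
  refine ⟨_, Presheaf.imageSieve_mem J ((PresheafOfModules.toPresheaf R.obj).map (colimComp c)) m,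
    fun W g hg => ?_⟩
  obtain ⟨z, hz⟩ := hg
  let G := D ⋙ SheafOfModules.forget R
  obtain ⟨S, t, rfl⟩ := exists_finsupp_sum_of_isColimit
    (isColimitOfPreserves (PresheafOfModules.evaluation R.obj (op W)) (colimit.isColimit G)) z
  refine ⟨S, t, hz.symm.trans ?_⟩
  refine (map_sum ((colimComp c).app (op W)).hom _ _).trans (Finset.sum_congr rfl fun i _ => ?_)
  exact congrArg (fun f : (SheafOfModules.forget R).obj (F i) ⟶ c.pt.val => (f.app (op W)).hom (t i))
    (colimit.ι_desc ((SheafOfModules.forget R).mapCocone c) ⟨i⟩)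

end Groth.Agent.FPLocal
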