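import Groth.Agent.FPLocal.Ops
import Mathlib.Algebra.Category.ModuleCat.Sheaf.Colimits
import Mathlib.Algebra.Category.ModuleCat.FilteredColimits

/-!
# Sections of colimits of sheaves of modules
-/

set_option linter.style.haveILetI false
set_option linter.unusedSectionVars false
set_option backward.isDefEq.respectTransparency false
set_option backward.isDefEq.respectTransparency.types false

universe u

open CategoryTheory Limits Opposite

noncomputable section

namespace Groth.Agent.FPLocal

variable {C : Type u} [SmallCategory C] {J : GrothendieckTopology C} {R : Sheaf J RingCat.{u}}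
  {I : Type u} [SmallCategory I] {D : I ⥤ SheafOfModules.{u} R} {c : Cocone D}

/-- The comparison from the colimit of the underlying presheaves. -/
def colimComp (c : Cocone D) :
    colimit (D ⋙ SheafOfModules.forget R) ⟶ c.pt.val :=
  colimit.desc _ ((SheafOfModules.forget R).mapCocone c)

theorem colimComp_locally_bijective (hc : IsColimit c) :
    Presheaf.IsLocallyInjective J ((PresheafOfModules.toPresheaf R.obj).map (colimComp c)) ∧
      Presheaf.IsLocallySurjective J ((PresheafOfModules.toPresheaf R.obj).map (colimComp c)) := by
  let G := PresheafOfModules.sheafification.{u} (𝟙 R.obj)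
  let adj := PresheafOfModules.sheafificationAdjunction.{u} (𝟙 R.obj)
  let P := colimit.cocone (D ⋙ SheafOfModules.forget R)
  haveI := adj.leftAdjoint_preservesColimits
  have hP : IsColimit (G.mapCocone P) := isColimitOfPreserves G (colimit.isColimit _)
  let η : (D ⋙ SheafOfModules.forget R) ⋙ G ≅ D := Functor.isoWhiskerLeft D (asIso adj.counit)
  let e : G.obj P.pt ≅ c.pt := hP.coconePointsIsoOfNatIso hc η
  have he : colimComp c = adj.unit.app P.pt ≫ (SheafOfModules.forget R).map e.hom := by
    refine colimit.hom_ext fun i => ?_
    rw [colimComp, colimit.ι_desc]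
    have h1 : G.map (colimit.ι (D ⋙ SheafOfModules.forget R) i) ≫ e.hom =
        adj.counit.app (D.obj i) ≫ c.ι.app i :=
      hP.comp_coconePointsIsoOfNatIso_hom hc η i
    have h2 : adj.unit.app ((SheafOfModules.forget R).obj (D.obj i)) ≫
        (SheafOfModules.forget R).map (G.map (colimit.ι (D ⋙ SheafOfModules.forget R) i)) =
        colimit.ι (D ⋙ SheafOfModules.forget R) i ≫ adj.unit.app P.pt :=
      (adj.unit.naturality _).symm
    show (SheafOfModules.forget R).map (c.ι.app i) = _
    refine Eq.trans ?_ (Category.assoc _ _ _)
    rw [← h2, Category.assoc, ← Functor.map_comp, h1, Functor.map_comp]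
    exact (Category.id_comp _).symm.trans
      ((congrArg (· ≫ (SheafOfModules.forget R).map (c.ι.app i))
        (adj.right_triangle_components (D.obj i)).symm).trans (Category.assoc _ _ _))
  have hu : (PresheafOfModules.toPresheaf R.obj).map (colimComp c) =
      toSheafify J P.pt.presheaf ≫ ((SheafOfModules.toSheaf R).map e.hom).hom := by
    rw [he, Functor.map_comp]
    refine congrArg₂ (· ≫ ·) ?_ rfl
    exact PresheafOfModules.toPresheaf_map_sheafificationAdjunction_unit_app (𝟙 R.obj) P.pt
  haveI : IsIso ((SheafOfModules.toSheaf R).map e.hom).hom :=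
    inferInstanceAs (IsIso ((sheafToPresheaf J AddCommGrpCat.{u}).map
      ((SheafOfModules.toSheaf R).map e.hom)))
  rw [hu]
  let ψ := ((SheafOfModules.toSheaf R).map e.hom).hom
  haveI : Presheaf.IsLocallyInjective J ψ := inferInstance
  haveI : Presheaf.IsLocallySurjective J ψ := inferInstance
  exact ⟨Presheaf.isLocallyInjective_comp J (toSheafify J P.pt.presheaf) ψ,
    Presheaf.isLocallySurjective_comp J (toSheafify J P.pt.presheaf) ψ⟩

variable [IsFiltered I]

/-- Sections of a filtered colimit come locally from a term. -/
theorem locally_exists_rep (hc : IsColimit c) {V : C} (m : c.pt.val.obj (op V)) :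
    Locally J V fun W g => ∃ (i : I) (y : (D.obj i).val.obj (op W)),
      ((c.ι.app i).val.app (op W)).hom y = mres c.pt g.op m := by
  haveI := (colimComp_locally_bijective hc).2
  refine ⟨_, Presheaf.imageSieve_mem J ((PresheafOfModules.toPresheaf R.obj).map (colimComp c)) m,
    fun W g hg => ?_⟩
  obtain ⟨z, hz⟩ := hg
  obtain ⟨i, y, hy⟩ := Types.jointly_surjective_of_isColimit
    (isColimitOfPreserves (PresheafOfModules.evaluation R.obj (op W) ⋙ forget _)
      (colimit.isColimit (D ⋙ SheafOfModules.forget R))) z
  refine ⟨i, y, Eq.trans ?_ hz⟩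
  rw [← hy]
  exact (congrArg (fun f : (SheafOfModules.forget R).obj (D.obj i) ⟶ c.pt.val =>
    (f.app (op W)).hom y) (colimit.ι_desc ((SheafOfModules.forget R).mapCocone c) i)).symm

/-- Two representatives of a section agree, locally, further in the system. -/
theorem locally_eq_of_app_eq (hc : IsColimit c) {V : C} {i j : I} (y : (D.obj i).val.obj (op V))
    (z : (D.obj j).val.obj (op V))
    (h : ((c.ι.app i).val.app (op V)).hom y = ((c.ι.app j).val.app (op V)).hom z) :
    Locally J V fun W g => ∃ (k : I) (f : i ⟶ k) (f' : j ⟶ k),
      ((D.map f).val.app (op W)).hom (mres (D.obj i) g.op y) =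
        ((D.map f').val.app (op W)).hom (mres (D.obj j) g.op z) := by
  haveI := (colimComp_locally_bijective hc).1
  let F := D ⋙ SheafOfModules.forget R
  have hdesc : ∀ (i : I) (y : (D.obj i).val.obj (op V)),
      ((colimComp c).app (op V)).hom (((colimit.ι F i).app (op V)).hom y) =
        ((c.ι.app i).val.app (op V)).hom y := fun i y =>
    congrArg (fun f : (SheafOfModules.forget R).obj (D.obj i) ⟶ c.pt.val =>
      (f.app (op V)).hom y) (colimit.ι_desc ((SheafOfModules.forget R).mapCocone c) i)
  refine ⟨_, Presheaf.equalizerSieve_mem J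
    ((PresheafOfModules.toPresheaf R.obj).map (colimComp c))
    (((colimit.ι F i).app (op V)).hom y) (((colimit.ι F j).app (op V)).hom z)
    ((hdesc i y).trans (h.trans (hdesc j z).symm)), fun W g hg => ?_⟩
  have e : ((colimit.ι F i).app (op W)).hom (mres (D.obj i) g.op y) =
      ((colimit.ι F j).app (op W)).hom (mres (D.obj j) g.op z) :=
    ((PresheafOfModules.naturality_apply (colimit.ι F i) g.op y).trans hg).trans
      (PresheafOfModules.naturality_apply (colimit.ι F j) g.op z).symm
  obtain ⟨k, f, f', hk⟩ := (Types.FilteredColimit.isColimit_eq_iff _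
    (isColimitOfPreserves (PresheafOfModules.evaluation R.obj (op W) ⋙ forget _)
      (colimit.isColimit F))).1 e
  exact ⟨k, f, f', hk⟩

end Groth.Agent.FPLocal
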