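import Groth.Agent.FPLocal.Gen

/-!
# Finite type and finite presentation in terms of local sections
-/

set_option linter.style.haveILetI false
set_option linter.unusedSectionVars false
set_option backward.isDefEq.respectTransparency false
set_option backward.isDefEq.respectTransparency.types false

universe u

open CategoryTheory Limits Opposite

noncomputable section

namespace Groth.Agent.FPLocal

variable {C : Type u} [SmallCategory C] {J : GrothendieckTopology C} {R : Sheaf J RingCat.{u}}
  (M : SheafOfModules.{u} R)

/-- `M` has finitely many generators over `V`. -/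
def HasGen (V : C) : Prop :=
  ∃ (I : Type u) (_ : Fintype I) (s : I → M.val.obj (op V)), Gen M s

/-- `M` has finitely many generators with finitely many relations over `V`. -/
def HasRels (V : C) : Prop :=
  ∃ (I K : Type u) (_ : Fintype I) (_ : Fintype K) (s : I → M.val.obj (op V))
    (c : K → I → R.obj.obj (op V)),
    Gen M s ∧ (∀ k, ∑ i, c k i • s i = 0) ∧ RelComplete M c s

variable {M}

theorem HasRels.hasGen {V : C} (h : HasRels M V) : HasGen M V := by
  obtain ⟨I, _, hI, _, s, _, hs, -⟩ := h
  exact ⟨I, hI, s, hs⟩

theorem HasGen.restrict {W V : C} (h : HasGen M V) (g : W ⟶ V) : HasGen M W := by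
  obtain ⟨I, hI, s, hs⟩ := h
  exact ⟨I, hI, _, hs.restrict g⟩

theorem HasRels.restrict {W V : C} (h : HasRels M V) (g : W ⟶ V) : HasRels M W := by
  obtain ⟨I, K, hI, hK, s, c, hs, h0, hc⟩ := h
  refine ⟨I, K, hI, hK, _, _, hs.restrict g, fun k => ?_, hc.restrict g⟩
  have e := congrArg (mres M g.op) (h0 k)
  rw [map_zero, map_sum] at e
  refine Eq.trans ?_ e
  exact Finset.sum_congr rfl fun i _ =>
    (PresheafOfModules.map_smul M.val g.op (c k i) (s i)).symm

set_option maxHeartbeats 1000000 in
/-- The generators and relations of a presentation of `M|V`. -/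
theorem hasRels_of_presentation {V : C} (P : (M.over V).Presentation) [P.IsFinite] :
    HasRels M V := by
  classical
  haveI : Fintype P.generators.I := Fintype.ofFinite _
  haveI : Fintype P.relations.I := Fintype.ofFinite _
  let π := P.generators.π
  let s : P.generators.I → M.val.obj (op V) := fun i => val₁ M (SheafOfModules.ιFree i ≫ π)
  have hπ : freeHomMk M s = π :=
    free_hom_ext fun i => val₁_injective M (val₁_ιFree_freeHomMk _ i)
  refine ⟨P.generators.I, P.relations.I, inferInstance, inferInstance, s,
    fun k i => relCoef P k i, exists_gen_of_generators P.generators, fun k => ?_, ?_⟩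
  · refine Eq.trans (Finset.sum_congr rfl fun i _ => ?_) (sum_relCoef_smul_genVal (𝟙 M) P k)
    refine congrArg (relCoef P k i • ·) ?_
    rw [genVal, CategoryTheory.Functor.map_id, Category.comp_id]
  · intro W g d hd
    let z := ∑ i, (show (R.over V).obj.obj (op (Over.mk g)) from d i) •
      basisVal (𝟙 (SheafOfModules.free (R := R.over V) P.generators.I)) i (Over.mk g)
    have hz : (π.val.app (op (Over.mk g))).hom z = 0 := by
      refine (app_sum_basis π _ _).trans (Eq.trans (Finset.sum_congr rfl fun i _ => ?_) hd)
      refine congrArg (d i • ·) ?_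
      rw [← hπ]
      exact basisVal_freeHomMk (M := M) s i g
    obtain ⟨y, hy⟩ := exists_kernel_preimage π z hz
    obtain ⟨S, hS, hS'⟩ := exists_sum_of_epi P.relations.π y
    refine ⟨Sieve.overEquiv _ S, (J.mem_over_iff _).1 hS, fun Z h hh => ?_⟩
    rw [Sieve.overEquiv_iff] at hh
    let U : Over V := Over.mk (h ≫ g)
    let g' : U ⟶ Over.mk g := Over.homMk h
    have he' : ∃ e : P.relations.I → (R.over V).obj.obj (op U),
        ∑ k, e k • basisVal P.relations.π k U = mres (kernel π) g'.op y := hS' g' hh
    obtain ⟨e, he⟩ := he'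
    refine ⟨e, fun i => ?_⟩
    have e1 := congrArg ((kernel.ι π).val.app (op U)).hom he
    have e2 : ((kernel.ι π).val.app (op U)).hom (mres (kernel π) g'.op y) =
        mres (SheafOfModules.free (R := R.over V) P.generators.I) g'.op z :=
      (PresheafOfModules.naturality_apply (kernel.ι π).val g'.op y).trans
        (congrArg (mres (SheafOfModules.free (R := R.over V) P.generators.I) g'.op) hy)
    have e3 : mres (SheafOfModules.free (R := R.over V) P.generators.I) g'.op z =
        ∑ i, (show (R.over V).obj.obj (op U) from (R.obj.map h.op).hom (d i)) •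
          basisVal (𝟙 (SheafOfModules.free (R := R.over V) P.generators.I)) i U := by
      refine (map_sum _ _ _).trans (Finset.sum_congr rfl fun i _ => ?_)
      refine (PresheafOfModules.map_smul _ g'.op (show (R.over V).obj.obj (op (Over.mk g)) from d i) _).trans (congrArg _ ?_)
      exact mres_basisVal (𝟙 _) i g'
    have e4 : ∀ k, ((kernel.ι π).val.app (op U)).hom (basisVal P.relations.π k U) =
        ∑ i, (show (R.over V).obj.obj (op U) from (R.obj.map (h ≫ g).op).hom (relCoef P k i)) •
          basisVal (𝟙 (SheafOfModules.free (R := R.over V) P.generators.I)) i U := fun k => by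
      show gval ((SheafOfModules.ιFree k ≫ P.relations.π) ≫ kernel.ι π) U = _
      rw [Category.assoc, eq_sum_comp_proj (SheafOfModules.ιFree k ≫ P.relations.π ≫ kernel.ι π),
        gval_sum_comp]
      refine Finset.sum_congr rfl fun i _ => congrArg (· • basisVal _ i U) ?_
      exact gval_endo _ (h ≫ g)
    rw [map_sum] at e1
    simp only [map_smul, e4, Finset.smul_sum, smul_smul] at e1
    rw [Finset.sum_comm] at e1
    simp only [← Finset.sum_smul] at e1
    exact congrFun (basis_coeff_unique U _ _ (e1.trans (e2.trans e3))) i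

/-- A module of finite type has local generators. -/
theorem exists_sieve_hasGen (M : SheafOfModules.{u} R) [M.IsFiniteType] (X : C) :
    ∃ S ∈ J X, ∀ ⦃V : C⦄ (g : V ⟶ X), S.arrows g → HasGen M V := by
  obtain ⟨S, hS, h⟩ := exists_sieve_generators M X
  refine ⟨S, hS, fun V g hg => ?_⟩
  obtain ⟨σ, hσ⟩ := h g hg
  haveI := Fintype.ofFinite σ.I
  exact ⟨σ.I, inferInstance, _, exists_gen_of_generators σ⟩

/-- A module of finite presentation has local generators and relations. -/
theorem exists_sieve_hasRels (M : SheafOfModules.{u} R) [M.IsFinitePresentation] (X : C) :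
    ∃ S ∈ J X, ∀ ⦃V : C⦄ (g : V ⟶ X), S.arrows g → HasRels M V := by
  obtain ⟨S, hS, h⟩ := exists_sieve_presentation M X
  refine ⟨S, hS, fun V g hg => ?_⟩
  obtain ⟨P, hP⟩ := h g hg
  exact hasRels_of_presentation P

/-- A module with local generators is of finite type. -/
theorem isFiniteType_of_hasGen (M : SheafOfModules.{u} R)
    (h : ∀ X : C, ∃ S ∈ J X, ∀ ⦃V : C⦄ (g : V ⟶ X), S.arrows g → HasGen M V) :
    M.IsFiniteType := by
  let σ : {V : C // HasGen M V} → Σ (V : C) (I : Type u), {p : Fintype I ×
      (I → M.val.obj (op V)) // @Gen _ _ _ _ M V I p.1 p.2} := fun v =>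
    ⟨v.1, v.2.choose, ⟨⟨v.2.choose_spec.choose, v.2.choose_spec.choose_spec.choose⟩,
      v.2.choose_spec.choose_spec.choose_spec⟩⟩
  let D : SheafOfModules.LocalGeneratorsData.{u, u, u, u} M :=
    { I := {V : C // HasGen M V}
      X := fun v => (σ v).1
      coversTop := fun X => by
        obtain ⟨S, hS, hS'⟩ := h X
        exact J.superset_covering (fun V g hg =>
          (Sieve.mem_ofObjects_iff ..).mpr ⟨⟨V, hS' g hg⟩, ⟨𝟙 V⟩⟩) hS
      generators := fun v => @genSections _ _ _ _ M _ _ (σ v).2.2.1.1 _ (σ v).2.2.2 }
  refine { exists_localGeneratorsData := ?_ }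
  refine ⟨D, ?_⟩
  constructor
  exact fun v => { finite := @Finite.of_fintype _ (σ v).2.2.1.1 }

/-- A module with local generators and relations is of finite presentation. -/
theorem isFinitePresentation_of_hasRels (M : SheafOfModules.{u} R)
    (h : ∀ X : C, ∃ S ∈ J X, ∀ ⦃V : C⦄ (g : V ⟶ X), S.arrows g → HasRels M V) :
    M.IsFinitePresentation := by
  have key : ∀ v : {V : C // HasRels M V}, ∃ P : (M.over v.1).Presentation, P.IsFinite := by
    rintro ⟨V, I, K, _, _, s, c, hs, h0, hc⟩
    exact ⟨presentationMk hs h0 hc, presentationMk_isFinite hs h0 hc⟩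
  choose P hP using key
  let D : SheafOfModules.QuasicoherentData.{u, u, u, u} M :=
    { I := {V : C // HasRels M V}
      X := fun v => v.1
      coversTop := fun X => by
        obtain ⟨S, hS, hS'⟩ := h X
        exact J.superset_covering (fun V g hg =>
          (Sieve.mem_ofObjects_iff ..).mpr ⟨⟨V, hS' g hg⟩, ⟨𝟙 V⟩⟩) hS
      presentation := P }
  refine { exists_quasicoherentData := ?_ }
  refine ⟨D, ?_⟩
  constructor
  exact hP

end Groth.Agent.FPLocal
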