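import Groth.Agent.SiteBase.FreeMod
import Mathlib.Algebra.Category.ModuleCat.Sheaf.Quasicoherent
import Mathlib.CategoryTheory.Sites.CoverLifting
import Mathlib.CategoryTheory.Sites.CoversTop.Basic

/-!
# Restriction of presentations, and sections as morphisms out of the structure sheaf
-/

set_option linter.style.haveILetI false
set_option backward.isDefEq.respectTransparency false
set_option backward.isDefEq.respectTransparency.types false

universe u

open CategoryTheory Limits Opposite

noncomputable section

namespace Groth.Agent.FPLocal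

section Pushforward

variable {C D : Type u} [SmallCategory C] [SmallCategory D] {J : GrothendieckTopology C}
  {K : GrothendieckTopology D} {G : C ⥤ D} [G.IsContinuous J K] [G.IsCocontinuous J K]
  {S : Sheaf J RingCat.{u}} {R : Sheaf K RingCat.{u}}

/-- Pushforward along a cocontinuous continuous functor preserves colimits. -/
theorem preservesColimitsOfSize_pushforward
    (φ : S ⟶ (G.sheafPushforwardContinuous RingCat.{u} J K).obj R) :
    PreservesColimitsOfSize.{u, u} (SheafOfModules.pushforward.{u} φ) where
  preservesColimitsOfShape {T} _ := by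
    haveI : PreservesColimitsOfShape T
        (G.sheafPushforwardContinuous AddCommGrpCat.{u} J K) :=
      (G.sheafAdjunctionCocontinuous AddCommGrpCat.{u} J K).leftAdjoint_preservesColimits.1
    haveI : PreservesColimitsOfShape T
        (SheafOfModules.pushforward.{u} φ ⋙ SheafOfModules.toSheaf.{u} S) :=
      inferInstanceAs (PreservesColimitsOfShape T
        (SheafOfModules.toSheaf.{u} R ⋙ G.sheafPushforwardContinuous AddCommGrpCat.{u} J K))
    haveI : ReflectsColimitsOfShape T (SheafOfModules.toSheaf.{u} S) :=
      reflectsColimitsOfShape_of_reflectsIsomorphisms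
    exact preservesColimitsOfShape_of_reflects_of_preserves _ (SheafOfModules.toSheaf.{u} S)

end Pushforward

variable {C : Type u} [SmallCategory C] {J : GrothendieckTopology C} {R : Sheaf J RingCat.{u}}

instance preservesColimitsOfSize_overMap {V X : C} (f : V ⟶ X) :
    PreservesColimitsOfSize.{u, u} (SheafOfModules.overMap.{u} R f) :=
  preservesColimitsOfSize_pushforward _

instance preservesColimitsOfSize_overFunctor (X : C) :
    PreservesColimitsOfSize.{u, u} (SheafOfModules.overFunctor.{u} R X) :=
  preservesColimitsOfSize_pushforward _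

instance additive_overMap {V X : C} (f : V ⟶ X) : (SheafOfModules.overMap.{u} R f).Additive where
  map_add := rfl

instance preservesFiniteColimits_overMap {V X : C} (f : V ⟶ X) :
    PreservesFiniteColimits (SheafOfModules.overMap.{u} R f) :=
  PreservesColimitsOfSize.preservesFiniteColimits _

instance preservesFiniteColimits_overFunctor (X : C) :
    PreservesFiniteColimits (SheafOfModules.overFunctor.{u} R X) :=
  PreservesColimitsOfSize.preservesFiniteColimits _

variable (M N : SheafOfModules.{u} R)

/-- Restriction of sections of a sheaf of modules. -/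
def mres {X Y : Cᵒᵖ} (h : X ⟶ Y) : M.val.obj X →+ M.val.obj Y :=
  (M.val.presheaf.map h).hom

theorem mres_comp {X Y Z : Cᵒᵖ} (h : X ⟶ Y) (k : Y ⟶ Z) (m : M.val.obj X) :
    mres M (h ≫ k) m = mres M k (mres M h m) :=
  ConcreteCategory.congr_hom (M.val.presheaf.map_comp h k) m

theorem mres_id {X : Cᵒᵖ} (m : M.val.obj X) : mres M (𝟙 X) m = m :=
  ConcreteCategory.congr_hom (M.val.presheaf.map_id X) m

/-- The value at the terminal object of a morphism from the structure sheaf of `C/V` to the
restriction of `M`. -/
def val₁ {V : C} (x : SheafOfModules.unit (R.over V) ⟶ M.over V) : M.val.obj (op V) :=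
  (x.val.app (op (Over.mk (𝟙 V)))).hom (1 : R.obj.obj (op V))

/-- The section of the restriction of `M` with given value at the terminal object. -/
def overSection {V : C} (m : M.val.obj (op V)) : (M.over V).sections :=
  PresheafOfModules.sectionsMk (fun U => mres M U.unop.hom.op m) fun {U U'} h => by
    show mres M h.unop.left.op (mres M U.unop.hom.op m) = mres M U'.unop.hom.op m
    rw [← mres_comp, ← op_comp, Over.w]

/-- The morphism with given value at the terminal object. -/
def homMk {V : C} (m : M.val.obj (op V)) : SheafOfModules.unit (R.over V) ⟶ M.over V :=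
  (M.over V).unitHomEquiv.symm (overSection M m)

theorem val₁_eq {V : C} (x : SheafOfModules.unit (R.over V) ⟶ M.over V) :
    val₁ M x = ((M.over V).unitHomEquiv x).val (op (Over.mk (𝟙 V))) := rfl

theorem val₁_homMk {V : C} (m : M.val.obj (op V)) : val₁ M (homMk M m) = m := by
  rw [val₁_eq, homMk, Equiv.apply_symm_apply]
  exact mres_id M m

theorem val₁_injective {V : C} : Function.Injective (val₁ M (V := V)) := by
  intro x y h
  refine (M.over V).unitHomEquiv.injective (Subtype.ext (funext fun U => ?_))
  have e : ∀ z : (M.over V).sections,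
      z.val U = mres M U.unop.hom.op (z.val (op (Over.mk (𝟙 V)))) := fun z =>
    (PresheafOfModules.sections_property z
      (Over.homMk U.unop.hom (Category.comp_id _) : U.unop ⟶ Over.mk (𝟙 V)).op).symm
  rw [e, e]
  exact congrArg (mres M U.unop.hom.op) h

theorem val₁_add {V : C} (x y : SheafOfModules.unit (R.over V) ⟶ M.over V) :
    val₁ M (x + y) = val₁ M x + val₁ M y := rfl

theorem val₁_sum {V : C} {ι : Type*} (s : Finset ι)
    (x : ι → (SheafOfModules.unit (R.over V) ⟶ M.over V)) :
    val₁ M (∑ i ∈ s, x i) = ∑ i ∈ s, val₁ M (x i) :=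
  map_sum (AddMonoidHom.mk' (val₁ M (V := V)) (val₁_add M)) x s

theorem val₁_comp {V : C} (x : SheafOfModules.unit (R.over V) ⟶ M.over V) (φ : M ⟶ N) :
    val₁ N (x ≫ (SheafOfModules.overFunctor R V).map φ) = (φ.val.app (op V)).hom (val₁ M x) := rfl

/-- The scalar of an endomorphism of the structure sheaf of `C/V`. -/
def scal {V : C} (a : SheafOfModules.unit (R.over V) ⟶ SheafOfModules.unit (R.over V)) :
    R.obj.obj (op V) :=
  (a.val.app (op (Over.mk (𝟙 V)))).hom (1 : R.obj.obj (op V))

theorem scal_eq {V : C} (a : SheafOfModules.unit (R.over V) ⟶ SheafOfModules.unit (R.over V)) :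
    scal a = val₁ (SheafOfModules.unit R) a := rfl

theorem scal_id (V : C) : scal (R := R) (𝟙 (SheafOfModules.unit (R.over V))) = 1 := rfl

theorem val₁_comp_endo {V : C}
    (a : SheafOfModules.unit (R.over V) ⟶ SheafOfModules.unit (R.over V))
    (x : SheafOfModules.unit (R.over V) ⟶ M.over V) :
    val₁ M (a ≫ x) = scal a • val₁ M x := by
  show (x.val.app (op (Over.mk (𝟙 V)))).hom (scal (R := R) (V := V) a) = _
  conv_lhs => rw [← mul_one (scal (R := R) (V := V) a)]
  exact map_smul (x.val.app (op (Over.mk (𝟙 V)))).hom (scal (R := R) (V := V) a) (1 : R.obj.obj (op V))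

/-- Restriction of morphisms out of the structure sheaf along `g : W ⟶ V`. -/
def restrHom {W V : C} (g : W ⟶ V) (x : SheafOfModules.unit (R.over V) ⟶ M.over V) :
    SheafOfModules.unit (R.over W) ⟶ M.over W :=
  (SheafOfModules.overMapUnitIso g).inv ≫ (SheafOfModules.overMap R g).map x ≫
    (SheafOfModules.overFunctorMap R g).hom.app M

theorem val₁_restrHom {W V : C} (g : W ⟶ V)
    (x : SheafOfModules.unit (R.over V) ⟶ M.over V) :
    val₁ M (restrHom M g x) = mres M g.op (val₁ M x) := by
  have h := PresheafOfModules.sections_property ((M.over V).unitHomEquiv x)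
    (Over.homMk (𝟙 W ≫ g) (Category.comp_id _) :
      (Over.map g).obj (Over.mk (𝟙 W)) ⟶ Over.mk (𝟙 V)).op
  refine (Eq.trans ?_ h.symm).trans ?_
  · rfl
  · show mres M (𝟙 W ≫ g).op _ = _
    rw [Category.id_comp]
    rfl

/-- A presentation of `M|X` gives one of `M|V` for `f : V ⟶ X`. -/
def presentationRestr {V X : C} (f : V ⟶ X) (P : (M.over X).Presentation) :
    (M.over V).Presentation :=
  (P.map (SheafOfModules.overMap R f) (SheafOfModules.overMapUnitIso f).symm).ofIsIso
    ((SheafOfModules.overFunctorMap R f).hom.app M)

instance presentationRestr_isFinite {V X : C} (f : V ⟶ X) (P : (M.over X).Presentation)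
    [P.IsFinite] : (presentationRestr M f P).IsFinite := by
  haveI : (P.map (SheafOfModules.overMap R f) (SheafOfModules.overMapUnitIso f).symm).IsFinite :=
    { isFiniteType_generators := ⟨inferInstanceAs (Finite P.generators.I)⟩
      isFiniteType_relations := ⟨inferInstanceAs (Finite P.relations.I)⟩ }
  unfold presentationRestr
  infer_instance

/-- Generators of `M|X` give generators of `M|V` for `f : V ⟶ X`. -/
def generatorsRestr {V X : C} (f : V ⟶ X) (σ : (M.over X).GeneratingSections) :
    (M.over V).GeneratingSections :=
  (σ.map (SheafOfModules.overMap R f) (SheafOfModules.overMapUnitIso f).symm).ofEpi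
    ((SheafOfModules.overFunctorMap R f).hom.app M)

theorem generatorsRestr_I {V X : C} (f : V ⟶ X) (σ : (M.over X).GeneratingSections) :
    (generatorsRestr M f σ).I = σ.I := rfl

/-- A finitely presented module has finite presentations on all objects of a covering sieve. -/
theorem exists_sieve_presentation [M.IsFinitePresentation] (X : C) :
    ∃ S ∈ J X, ∀ ⦃V : C⦄ (g : V ⟶ X), S g →
      ∃ P : (M.over V).Presentation, P.IsFinite := by
  obtain ⟨q, hq⟩ := SheafOfModules.IsFinitePresentation.exists_quasicoherentData M
  refine ⟨_, q.coversTop X, fun V g hg => ?_⟩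
  obtain ⟨i, ⟨f⟩⟩ := (Sieve.mem_ofObjects_iff ..).mp hg
  exact ⟨presentationRestr M f (q.presentation i), inferInstance⟩

/-- A module of finite type has finitely many generators on all objects of a covering sieve. -/
theorem exists_sieve_generators [M.IsFiniteType] (X : C) :
    ∃ S ∈ J X, ∀ ⦃V : C⦄ (g : V ⟶ X), S g →
      ∃ σ : (M.over V).GeneratingSections, Finite σ.I := by
  obtain ⟨q, hq⟩ := SheafOfModules.IsFiniteType.exists_localGeneratorsData M
  refine ⟨_, q.coversTop X, fun V g hg => ?_⟩
  obtain ⟨i, ⟨f⟩⟩ := (Sieve.mem_ofObjects_iff ..).mp hg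
  exact ⟨generatorsRestr M f (q.generators i),
    (generatorsRestr_I M f (q.generators i)).symm ▸ (hq.isFiniteType i).finite⟩

end Groth.Agent.FPLocal
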