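import Groth.Agent.FPLocal.Basic
import Groth.Agent.ModTensor.Criterion

/-!
# Maps from finitely presented modules to flat modules factor locally through finite free modules
-/

set_option linter.style.haveILetI false
set_option backward.isDefEq.respectTransparency false
set_option backward.isDefEq.respectTransparency.types false

universe u

open CategoryTheory Limits Opposite

noncomputable section

namespace Groth.Agent.FPLocal

variable {C : Type u} [SmallCategory C] {J : GrothendieckTopology C} {R : Sheaf J RingCat.{u}}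

/-- The morphism out of a free module given on the basis. -/
def freeDesc {D : Type u} [SmallCategory D] {K : GrothendieckTopology D} {S : Sheaf K RingCat.{u}}
    [HasSheafify K AddCommGrpCat.{u}] [K.WEqualsLocallyBijective AddCommGrpCat.{u}]
    {I : Type u} {M : SheafOfModules.{u} S} (x : I → (SheafOfModules.unit S ⟶ M)) :
    SheafOfModules.free I ⟶ M :=
  Cofan.IsColimit.desc (SheafOfModules.isColimitFreeCofan I) x

@[reassoc (attr := simp)]
theorem ιFree_freeDesc {D : Type u} [SmallCategory D] {K : GrothendieckTopology D}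
    {S : Sheaf K RingCat.{u}} [HasSheafify K AddCommGrpCat.{u}]
    [K.WEqualsLocallyBijective AddCommGrpCat.{u}] {I : Type u} {M : SheafOfModules.{u} S}
    (x : I → (SheafOfModules.unit S ⟶ M)) (i : I) :
    SheafOfModules.ιFree i ≫ freeDesc x = x i :=
  Cofan.IsColimit.fac (SheafOfModules.isColimitFreeCofan I) x i

theorem free_hom_ext {D : Type u} [SmallCategory D] {K : GrothendieckTopology D}
    {S : Sheaf K RingCat.{u}} [HasSheafify K AddCommGrpCat.{u}]
    [K.WEqualsLocallyBijective AddCommGrpCat.{u}] {I : Type u} {M : SheafOfModules.{u} S}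
    {a b : SheafOfModules.free I ⟶ M}
    (h : ∀ i, SheafOfModules.ιFree i ≫ a = SheafOfModules.ιFree i ≫ b) : a = b :=
  Cofan.IsColimit.hom_ext (SheafOfModules.isColimitFreeCofan I) _ _ h

/-- A morphism into a finite free module is the sum of its components. -/
theorem eq_sum_comp_proj {D : Type u} [SmallCategory D] {K : GrothendieckTopology D}
    {S : Sheaf K RingCat.{u}} [HasSheafify K AddCommGrpCat.{u}]
    [K.WEqualsLocallyBijective AddCommGrpCat.{u}] {I : Type u} [Fintype I] [DecidableEq I]
    {M : SheafOfModules.{u} S} (x : M ⟶ SheafOfModules.free I) :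
    x = ∑ j, (x ≫ freeDesc (fun i => if i = j then 𝟙 (SheafOfModules.unit S) else 0)) ≫
      SheafOfModules.ιFree j := by
  have e : ∑ j, freeDesc (fun i : I => if i = j then 𝟙 (SheafOfModules.unit S) else 0) ≫
      SheafOfModules.ιFree j = 𝟙 (SheafOfModules.free I) := by
    refine free_hom_ext fun i => ?_
    rw [Preadditive.comp_sum, Finset.sum_eq_single i]
    · simp
    · intro j _ hj
      simp [Ne.symm hj]
    · simp
  conv_lhs => rw [← Category.comp_id x, ← e, Preadditive.comp_sum]
  simp

/-- An additive functor kills a combination of the basis whose transported coefficients do. -/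
theorem map_comp_eq_zero {𝒞 𝒟 : Type*} [Category 𝒞] [Category 𝒟] [Preadditive 𝒞] [Preadditive 𝒟]
    (Φ : 𝒞 ⥤ 𝒟) [Φ.Additive] {u G : 𝒞} {U T : 𝒟} (η : U ≅ Φ.obj u) {I L : Type*}
    [Fintype I] [Fintype L] (ι : I → (u ⟶ G)) (A : Φ.obj G ⟶ T) (ι' : L → (U ⟶ T))
    (α : I → L → (U ⟶ U)) (hA : ∀ j, η.hom ≫ Φ.map (ι j) ≫ A = ∑ l, α j l ≫ ι' l)
    (x : u ⟶ G) (γ : I → (u ⟶ u)) (hx : x = ∑ j, γ j ≫ ι j)
    (hz : ∀ l, ∑ j, (η.hom ≫ Φ.map (γ j) ≫ η.inv) ≫ α j l = 0) :
    η.hom ≫ Φ.map x ≫ A = 0 := by
  have h1 : ∀ j, η.hom ≫ Φ.map (γ j ≫ ι j) ≫ A =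
      ∑ l, ((η.hom ≫ Φ.map (γ j) ≫ η.inv) ≫ α j l) ≫ ι' l := fun j => by
    rw [Φ.map_comp, Category.assoc, ← η.inv_hom_id_assoc (Φ.map (ι j) ≫ A), hA]
    simp [Preadditive.comp_sum]
  rw [hx, Φ.map_sum, Preadditive.sum_comp, Preadditive.comp_sum,
    Finset.sum_congr rfl fun j _ => h1 j, Finset.sum_comm]
  refine Finset.sum_eq_zero fun l _ => ?_
  rw [← Preadditive.sum_comp, hz, zero_comp]

variable {M N : SheafOfModules.{u} R}

theorem val₁_conj {X W : C} (h : W ⟶ X)
    (b : SheafOfModules.unit (R.over X) ⟶ SheafOfModules.unit (R.over X)) :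
    val₁ (SheafOfModules.unit R) (V := W) ((SheafOfModules.overMapUnitIso h).inv ≫
      (SheafOfModules.overMap R h).map b ≫ (SheafOfModules.overMapUnitIso h).hom) =
      (R.obj.map h.op).hom (scal (R := R) (V := X) b) :=
  val₁_restrHom (SheafOfModules.unit R) h b

/-- The scalar of a composite of endomorphisms of the structure sheaf. -/
theorem val₁_endo_comp {W : C}
    (b c : SheafOfModules.unit (R.over W) ⟶ SheafOfModules.unit (R.over W)) :
    val₁ (SheafOfModules.unit R) (V := W) (b ≫ c) =
      (show R.obj.obj (op W) from val₁ (SheafOfModules.unit R) (V := W) b) *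
        (show R.obj.obj (op W) from val₁ (SheafOfModules.unit R) (V := W) c) :=
  val₁_comp_endo (SheafOfModules.unit R) b c

/-- The coefficient of the generator `j` in the relation `k` of a presentation of `M|X`. -/
def relCoef {X : C} (P : (M.over X).Presentation) [DecidableEq P.generators.I]
    (k : P.relations.I) (j : P.generators.I) : R.obj.obj (op X) :=
  scal (R := R) (V := X) ((SheafOfModules.ιFree k ≫
    ((SheafOfModules.freeHomEquiv _).symm P.relations.s ≫ kernel.ι P.generators.π)) ≫
      freeDesc (fun i => if i = j then 𝟙 (SheafOfModules.unit (R.over X)) else 0))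

/-- The value on the generator `j` of a presentation of `M|X` of a morphism out of `M`. -/
def genVal {X : C} (φ : M ⟶ N) (P : (M.over X).Presentation) (j : P.generators.I) :
    N.val.obj (op X) :=
  val₁ N (SheafOfModules.ιFree j ≫ P.generators.π ≫ (SheafOfModules.overFunctor R X).map φ)

set_option maxHeartbeats 1000000 in
/-- The values on the generators satisfy the relations. -/
theorem sum_relCoef_smul_genVal {X : C} (φ : M ⟶ N) (P : (M.over X).Presentation)
    [Fintype P.generators.I] [DecidableEq P.generators.I] (k : P.relations.I) :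
    ∑ j, relCoef P k j • genVal φ P j = 0 := by
  let r := (SheafOfModules.freeHomEquiv _).symm P.relations.s ≫ kernel.ι P.generators.π
  let ψ := P.generators.π ≫ (SheafOfModules.overFunctor R X).map φ
  let γ := fun j => (SheafOfModules.ιFree k ≫ r) ≫
    freeDesc (fun i => if i = j then 𝟙 (SheafOfModules.unit (R.over X)) else 0)
  have e : (SheafOfModules.ιFree k ≫ r) ≫ ψ = 0 := by simp [r, ψ]
  have e2 : ∑ j, γ j ≫ SheafOfModules.ιFree j ≫ ψ = 0 := by
    refine Eq.trans ?_ e
    conv_rhs => rw [eq_sum_comp_proj (SheafOfModules.ιFree k ≫ r), Preadditive.sum_comp]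
    simp only [γ, Category.assoc]
  refine Eq.trans ?_ ((congrArg (val₁ N) e2).trans rfl)
  rw [val₁_sum]
  exact Finset.sum_congr rfl fun j _ => (val₁_comp_endo N (γ j) _).symm

set_option maxHeartbeats 1000000 in
/-- A morphism `M|X ⟶ N|X` that kills the relations up to a system `(t, a)` over `W` factors
through a free module over `W`. -/
theorem exists_factor {X W : C} (h : W ⟶ X) (φ : M ⟶ N) (P : (M.over X).Presentation)
    [Fintype P.generators.I] [DecidableEq P.generators.I] {ν : Type u} [Fintype ν]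
    (t : ν → N.val.obj (op W)) (a : P.generators.I → ν → R.obj.obj (op W))
    (ht : ∀ j, mres N h.op (genVal φ P j) = ∑ l, a j l • t l)
    (ha : ∀ k l, ∑ j, (R.obj.map h.op).hom (relCoef P k j) * a j l = 0) :
    ∃ (A : M.over W ⟶ SheafOfModules.free ν) (B : SheafOfModules.free ν ⟶ N.over W),
      A ≫ B = (SheafOfModules.overFunctor R W).map φ := by
  let Φ := SheafOfModules.overMap.{u} R h
  let η : SheafOfModules.unit (R.over W) ≅ Φ.obj (SheafOfModules.unit (R.over X)) :=
    (SheafOfModules.overMapUnitIso h).symm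
  let r := (SheafOfModules.freeHomEquiv _).symm P.relations.s ≫ kernel.ι P.generators.π
  let π := P.generators.π
  have wrπ : r ≫ π = 0 := by simp [r, π]
  haveI : Φ.Additive := inferInstance
  let α : P.generators.I → ν → (SheafOfModules.unit (R.over W) ⟶ SheafOfModules.unit (R.over W)) :=
    fun j l => homMk (SheafOfModules.unit R) (a j l)
  let E := SheafOfModules.mapFreeIso Φ P.generators.I η
  let A₀ : Φ.obj (SheafOfModules.free P.generators.I) ⟶ SheafOfModules.free ν :=
    E.inv ≫ freeDesc (fun j => ∑ l, α j l ≫ SheafOfModules.ιFree l)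
  have hA₀ : ∀ j, η.hom ≫ Φ.map (SheafOfModules.ιFree j) ≫ A₀ =
      ∑ l, α j l ≫ SheafOfModules.ιFree l := fun j => by
    simp [A₀, E]
  have hzero : Φ.map r ≫ A₀ = 0 := by
    rw [← cancel_epi (SheafOfModules.mapFreeIso Φ P.relations.I η).hom]
    refine free_hom_ext fun k => ?_
    rw [SheafOfModules.ιFree_mapFreeIso_hom_assoc, comp_zero, comp_zero, ← Φ.map_comp_assoc]
    refine map_comp_eq_zero Φ η _ A₀ _ α hA₀ _ _ (eq_sum_comp_proj (SheafOfModules.ιFree k ≫ r))
      fun l => val₁_injective (SheafOfModules.unit R) (V := W) ?_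
    refine (val₁_sum (SheafOfModules.unit R) _ _).trans (Eq.trans ?_ (ha k l))
    refine Finset.sum_congr rfl fun j _ => ?_
    refine (val₁_endo_comp _ _).trans ?_
    refine congrArg₂ (· * ·) ?_ (val₁_homMk (SheafOfModules.unit R) (a j l))
    refine (val₁_conj h _).trans ?_
    rfl
  have hc : IsColimit (CokernelCofork.ofπ (f := Φ.map r) (Φ.map π)
      (by rw [← Φ.map_comp, wrπ, Φ.map_zero])) :=
    isColimitCoforkMapOfIsColimit' Φ wrπ P.isColimit
  let A₁ := hc.desc (CokernelCofork.ofπ A₀ hzero)
  have hA₁ : Φ.map π ≫ A₁ = A₀ := hc.fac (CokernelCofork.ofπ A₀ hzero) WalkingParallelPair.one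
  let e := SheafOfModules.overFunctorMap R h
  refine ⟨e.inv.app M ≫ A₁, freeDesc fun l => homMk N (t l), ?_⟩
  rw [Category.assoc, ← cancel_epi (e.hom.app M), Iso.hom_inv_id_app_assoc, ← e.hom.naturality φ]
  haveI : Epi (Φ.map π) := epi_of_isColimit_cofork hc
  rw [← cancel_epi (Φ.map π), ← Category.assoc (Φ.map π) A₁, hA₁, ← cancel_epi E.hom]
  refine free_hom_ext fun j => ?_
  rw [SheafOfModules.ιFree_mapFreeIso_hom_assoc, SheafOfModules.ιFree_mapFreeIso_hom_assoc,
    ← Category.assoc (Φ.map _) A₀, ← Category.assoc η.hom (Φ.map _ ≫ A₀), hA₀,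
    Preadditive.sum_comp]
  refine val₁_injective N ?_
  rw [val₁_sum]
  refine Eq.trans (Finset.sum_congr rfl fun l _ => ?_) ((ht j).symm.trans ?_)
  · rw [Category.assoc, ιFree_freeDesc, val₁_comp_endo, val₁_homMk]
    exact congrArg (· • t l) (val₁_homMk (SheafOfModules.unit R) (a j l))
  · refine (val₁_restrHom N h (SheafOfModules.ιFree j ≫ π ≫
      (SheafOfModules.overFunctor R X).map φ)).symm.trans (congrArg (val₁ N) ?_)
    show η.hom ≫ Φ.map _ ≫ e.hom.app N = _
    simp only [Functor.map_comp, Category.assoc, Functor.comp_map]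
    rfl

end Groth.Agent.FPLocal
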