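import Groth.Agent.FPLocal.Factor
import Groth.Prelude.Def_ModSite

/-!
# Maps from finitely presented to flat modules: the local factorisation
-/

set_option linter.style.haveILetI false
set_option backward.isDefEq.respectTransparency false
set_option backward.isDefEq.respectTransparency.types false

universe u

open CategoryTheory Limits Opposite

noncomputable section

namespace Groth.Agent.FPLocal

variable {C : Type u} [SmallCategory C] {J : GrothendieckTopology C} (O : Sheaf J CommRingCat.{u})

theorem res_sum_smul {H : ModSite.Mod O} {X V : C} (f : V ⟶ X) {ι : Type u} [Fintype ι]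
    (c : ι → O.obj.obj (op X)) (s : ι → (ModTensor.pre O H).obj (op X))
    (h : ∑ j, c j • s j = 0) :
    ∑ j, ModTensor.ores O f.op (c j) • ModTensor.res (ModTensor.pre O H) f.op (s j) = 0 := by
  have e := congrArg (ModTensor.res (ModTensor.pre O H) f.op) h
  rw [map_zero, map_sum] at e
  refine Eq.trans ?_ e
  exact Finset.sum_congr rfl fun j _ =>
    (ModTensor.res_smul (ModTensor.pre O H) f.op (c j) (s j)).symm

set_option maxHeartbeats 800000 in
/-- Over an object mapping to an object with a finite presentation of `F`, a map to a flat module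
factors through a finite free module on a covering sieve. -/
theorem exists_sieve_factor {F H : ModSite.Mod O} (hH : ModSite.IsFlat H) (φ : F ⟶ H) {X V : C}
    (f : V ⟶ X) (P : (SheafOfModules.over F X).Presentation) [P.IsFinite] :
    ∃ T ∈ J V, ∀ ⦃W : C⦄ (k : W ⟶ V), T.arrows k →
      ∃ (n : ℕ) (a : (ModSite.restr O W).obj F ⟶ SheafOfModules.free (ULift.{u} (Fin n)))
        (b : SheafOfModules.free (ULift.{u} (Fin n)) ⟶ (ModSite.restr O W).obj H),
        a ≫ b = (ModSite.restr O W).map φ := by
  classical
  haveI : Fintype P.generators.I := Fintype.ofFinite _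
  haveI : Fintype P.relations.I := Fintype.ofFinite _
  let c : P.relations.I → P.generators.I → O.obj.obj (op X) := fun k j => relCoef P k j
  let s : P.generators.I → (ModTensor.pre O H).obj (op X) := fun j => genVal φ P j
  have h0 : ∀ k, ∑ j, c k j • s j = 0 := fun k => sum_relCoef_smul_genVal φ P k
  refine ⟨_, ModTensor.goodSieve_mem_of_single O H (ModTensor.goodSieve_mem_of_isFlat O H hH)
    (fun k j => ModTensor.ores O f.op (c k j))
    (fun j => ModTensor.res (ModTensor.pre O H) f.op (s j))
    (fun k => res_sum_smul O f (c k) s (h0 k)), fun W k hk => ?_⟩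
  obtain ⟨ν, _, t, a, ht, ha⟩ := hk
  let e : ULift.{u} (Fin (Fintype.card ν)) ≃ ν := Equiv.ulift.trans (Fintype.equivFin ν).symm
  have ht' : ∀ j, mres H (k ≫ f).op (genVal φ P j) = ∑ l, a j (e l) • t (e l) := fun j =>
    ((mres_comp H f.op k.op (s j)).trans (ht j)).trans
      (e.sum_comp fun l => a j l • t l).symm
  have ha' : ∀ m l, ∑ j, ModTensor.ores O (k ≫ f).op (c m j) * a j (e l) = 0 := fun m l => by
    refine Eq.trans (Finset.sum_congr rfl fun j _ => ?_) (ha m (e l))
    rw [mul_comm, op_comp, ModTensor.ores_comp]
  obtain ⟨A, B, hAB⟩ := exists_factor (k ≫ f) φ P (fun l => t (e l)) (fun j l => a j (e l)) ht' ha'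
  exact ⟨Fintype.card ν, A, B, hAB⟩

end Groth.Agent.FPLocal
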