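import Groth.Agent.FPLocal.EpiFree

/-!
# Finite generation and presentation in terms of sections
-/

set_option linter.style.haveILetI false
set_option linter.unusedSectionVars false
set_option backward.isDefEq.respectTransparency false
set_option backward.isDefEq.respectTransparency.types false

universe u

open CategoryTheory Limits Opposite

noncomputable section

namespace Groth.Agent.FPLocal

variable {C : Type u} [SmallCategory C] {J : GrothendieckTopology C} {R : Sheaf J RingCat.{u}}
  (M : SheafOfModules.{u} R) {V : C} {I : Type u} [Fintype I]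

/-- `s` generates `M` over `V`: locally every section is a combination of the `s i`. -/
def Gen (s : I → M.val.obj (op V)) : Prop :=
  ∀ ⦃W : C⦄ (g : W ⟶ V) (m : M.val.obj (op W)), ∃ S ∈ J W, ∀ ⦃Z : C⦄ (h : Z ⟶ W), S.arrows h →
    ∃ a : I → R.obj.obj (op Z), ∑ i, a i • mres M (h ≫ g).op (s i) = mres M h.op m

/-- The relations `c` are all the relations between the `s i`, locally. -/
def RelComplete {K : Type u} [Fintype K] (c : K → I → R.obj.obj (op V))
    (s : I → M.val.obj (op V)) : Prop :=
  ∀ ⦃W : C⦄ (g : W ⟶ V) (d : I → R.obj.obj (op W)), ∑ i, d i • mres M g.op (s i) = 0 →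
    ∃ S ∈ J W, ∀ ⦃Z : C⦄ (h : Z ⟶ W), S.arrows h → ∃ e : K → R.obj.obj (op Z),
      ∀ i, ∑ k, e k * (R.obj.map (h ≫ g).op).hom (c k i) = (R.obj.map h.op).hom (d i)

variable {M}

theorem Gen.restrict {s : I → M.val.obj (op V)} (hs : Gen M s) {W : C} (g : W ⟶ V) :
    Gen M (fun i => mres M g.op (s i)) := by
  intro Z h m
  obtain ⟨S, hS, hS'⟩ := hs (h ≫ g) m
  refine ⟨S, hS, fun Y k hk => ?_⟩
  obtain ⟨a, ha⟩ := hS' k hk
  refine ⟨a, Eq.trans (Finset.sum_congr rfl fun i _ => ?_) ha⟩
  rw [← mres_comp, ← op_comp, Category.assoc]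

theorem RelComplete.restrict {K : Type u} [Fintype K] {c : K → I → R.obj.obj (op V)}
    {s : I → M.val.obj (op V)} (hc : RelComplete M c s) {W : C} (g : W ⟶ V) :
    RelComplete M (fun k i => (R.obj.map g.op).hom (c k i)) (fun i => mres M g.op (s i)) := by
  intro Z h d hd
  obtain ⟨S, hS, hS'⟩ := hc (h ≫ g) d (Eq.trans (Finset.sum_congr rfl fun i _ => by
    rw [op_comp, mres_comp]) hd)
  refine ⟨S, hS, fun Y k hk => ?_⟩
  obtain ⟨e, he⟩ := hS' k hk
  refine ⟨e, fun i => Eq.trans (Finset.sum_congr rfl fun j _ => ?_) (he i)⟩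
  have e' : (R.obj.map (k ≫ h).op).hom ((R.obj.map g.op).hom (c j i)) =
      (R.obj.map (g.op ≫ (k ≫ h).op)).hom (c j i) :=
    (ConcreteCategory.congr_hom (R.obj.map_comp g.op (k ≫ h).op) (c j i)).symm
  rw [e', ← op_comp, Category.assoc]

theorem basisVal_freeHomMk (s : I → M.val.obj (op V)) (i : I) {W : C} (g : W ⟶ V) :
    basisVal (freeHomMk M s) i (Over.mk g) = mres M g.op (s i) := by
  rw [← mres_basisVal (freeHomMk M s) i
    (Over.homMk g (Category.comp_id g) : Over.mk g ⟶ Over.mk (𝟙 V))]
  exact congrArg (mres M g.op) (val₁_ιFree_freeHomMk (M := M) s i)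

theorem Gen.epi {s : I → M.val.obj (op V)} (hs : Gen M s) : Epi (freeHomMk M s) := by
  refine epi_of_exists_sum _ fun U m => ?_
  obtain ⟨S, hS, hS'⟩ := hs U.hom m
  refine ⟨(Sieve.overEquiv U).symm S,
    (J.mem_over_iff _).2 (by rw [OrderIso.apply_symm_apply]; exact hS), fun W g hg => ?_⟩
  have hg' : S.arrows g.left := hg
  obtain ⟨a, ha⟩ := hS' g.left hg'
  refine ⟨a, Eq.trans (Finset.sum_congr rfl fun i _ => congrArg (a i • ·) ?_) ha⟩
  show basisVal (freeHomMk M s) i (Over.mk W.hom) = _
  rw [basisVal_freeHomMk]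
  exact congrArg (fun f : W.left ⟶ V => mres M f.op (s i)) (Over.w g).symm

theorem gen_of_epi (s : I → M.val.obj (op V)) [Epi (freeHomMk M s)] : Gen M s := by
  intro W g m
  obtain ⟨S, hS, hS'⟩ := exists_sum_of_epi (freeHomMk M s) (U := Over.mk g) m
  refine ⟨Sieve.overEquiv _ S, (J.mem_over_iff _).1 hS, fun Z h hh => ?_⟩
  rw [Sieve.overEquiv_iff] at hh
  obtain ⟨a, ha⟩ := hS' _ hh
  refine ⟨a, Eq.trans (Finset.sum_congr rfl fun i _ => congrArg (a i • ·) ?_) ha⟩
  exact (basisVal_freeHomMk (M := M) s i (h ≫ g)).symm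

/-- The coefficients of a combination of the basis are unique. -/
theorem basis_coeff_unique {D : Type u} [SmallCategory D] {K : GrothendieckTopology D}
    {T : Sheaf K RingCat.{u}} (U : D) (a b : I → T.obj.obj (op U))
    (h : ∑ i, a i • basisVal (𝟙 (SheafOfModules.free (R := T) I)) i U =
      ∑ i, b i • basisVal (𝟙 (SheafOfModules.free (R := T) I)) i U) : a = b := by
  classical
  funext j
  let x : SheafOfModules.free (R := T) I ⟶ SheafOfModules.unit T :=
    freeDesc (fun i => if i = j then 𝟙 (SheafOfModules.unit T) else 0)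
  have key : ∀ a : I → T.obj.obj (op U), (x.val.app (op U)).hom
      (∑ i, a i • basisVal (𝟙 (SheafOfModules.free (R := T) I)) i U) = a j := fun a => by
    rw [app_sum_basis, Finset.sum_eq_single j]
    · rw [basisVal, ιFree_freeDesc, if_pos rfl]
      exact mul_one (M := T.obj.obj (op U)) _
    · intro i _ hi
      rw [basisVal, ιFree_freeDesc, if_neg hi]
      exact smul_zero _
    · simp
  exact (key a).symm.trans ((congrArg _ h).trans (key b))

/-- The section `∑ c i • e i` as a morphism out of the structure sheaf. -/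
def combHom (c : I → R.obj.obj (op V)) :
    SheafOfModules.unit (R.over V) ⟶ SheafOfModules.free (R := R.over V) I :=
  ∑ i, homMk (SheafOfModules.unit R) (c i) ≫ SheafOfModules.ιFree i

theorem gval_sum_comp {D : Type u} [SmallCategory D] {K : GrothendieckTopology D}
    {T : Sheaf K RingCat.{u}} (γ : I → (SheafOfModules.unit T ⟶ SheafOfModules.unit T)) (U : D) :
    gval (∑ i, γ i ≫ SheafOfModules.ιFree i) U =
      ∑ i, (show T.obj.obj (op U) from gval (γ i) U) •
        basisVal (𝟙 (SheafOfModules.free (R := T) I)) i U := by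
  rw [gval, app_sum_hom]
  refine Finset.sum_congr rfl fun i _ => ?_
  refine (app_eq_smul_gval (SheafOfModules.ιFree i) U _).trans ?_
  rw [basisVal, Category.comp_id]
  rfl

theorem gval_endo (γ : SheafOfModules.unit (R.over V) ⟶ SheafOfModules.unit (R.over V))
    {W : C} (g : W ⟶ V) :
    (show R.obj.obj (op W) from gval γ (Over.mk g)) =
      (R.obj.map g.op).hom (scal (R := R) (V := V) γ) :=
  (mres_gval γ (Over.homMk g (Category.comp_id g) : Over.mk g ⟶ Over.mk (𝟙 V))).symm

theorem gval_combHom (c : I → R.obj.obj (op V)) {W : C} (g : W ⟶ V) :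
    gval (combHom c) (Over.mk g) = ∑ i, (show (R.over V).obj.obj (op (Over.mk g)) from
      (R.obj.map g.op).hom (c i)) •
        basisVal (𝟙 (SheafOfModules.free (R := R.over V) I)) i (Over.mk g) := by
  rw [combHom, gval_sum_comp]
  refine Finset.sum_congr rfl fun i _ => congrArg (· • _) ?_
  exact (gval_endo _ g).trans
    (congrArg (R.obj.map g.op).hom (val₁_homMk (SheafOfModules.unit R) (c i)))

theorem combHom_comp {c : I → R.obj.obj (op V)} {s : I → M.val.obj (op V)}
    (h : ∑ i, c i • s i = 0) : combHom c ≫ freeHomMk M s = 0 := by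
  refine val₁_injective M ?_
  rw [combHom, Preadditive.sum_comp, val₁_sum]
  refine Eq.trans (Finset.sum_congr rfl fun i _ => ?_) (h.trans rfl)
  rw [Category.assoc, val₁_comp_endo, val₁_ιFree_freeHomMk]
  exact congrArg (· • s i) (val₁_homMk (SheafOfModules.unit R) (c i))

/-- The generators of `M|V` given by generating sections. -/
def genSections {s : I → M.val.obj (op V)} (hs : Gen M s) : (M.over V).GeneratingSections where
  I := I
  s := SheafOfModules.freeHomEquiv _ (freeHomMk M s)
  epi := by
    rw [Equiv.symm_apply_apply]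
    exact hs.epi

theorem genSections_π {s : I → M.val.obj (op V)} (hs : Gen M s) :
    (genSections hs).π = freeHomMk M s :=
  Equiv.symm_apply_apply _ _

/-- The relations as a morphism to the kernel. -/
def relLift {K : Type u} {c : K → I → R.obj.obj (op V)}
    {s : I → M.val.obj (op V)} (h0 : ∀ k, ∑ i, c k i • s i = 0) :
    SheafOfModules.free K ⟶ kernel (freeHomMk M s) :=
  freeDesc fun k => kernel.lift _ (combHom (c k)) (combHom_comp (h0 k))

set_option maxHeartbeats 1000000 in
theorem epi_relLift {K : Type u} [Fintype K] {c : K → I → R.obj.obj (op V)}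
    {s : I → M.val.obj (op V)} (h0 : ∀ k, ∑ i, c k i • s i = 0)
    (hc : RelComplete M c s) : Epi (relLift h0) := by
  refine epi_of_exists_sum _ fun U z => ?_
  let π := freeHomMk M s
  let z' := ((kernel.ι π).val.app (op U)).hom z
  obtain ⟨d, hd⟩ := exists_eq_sum_basis U z'
  have hd0 : ∑ i, d i • mres M U.hom.op (s i) = 0 := by
    have e : (π.val.app (op U)).hom z' = 0 := by
      have := congrArg (fun f : kernel π ⟶ M.over V => (f.val.app (op U)).hom z)
        (kernel.condition π)
      exact this
    rw [hd, app_sum_basis] at e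
    refine Eq.trans (Finset.sum_congr rfl fun i _ => congrArg (d i • ·) ?_) e
    exact (basisVal_freeHomMk (M := M) s i U.hom).symm
  obtain ⟨S, hS, hS'⟩ := hc U.hom d hd0
  refine ⟨(Sieve.overEquiv U).symm S,
    (J.mem_over_iff _).2 (by rw [OrderIso.apply_symm_apply]; exact hS), fun W g hg => ?_⟩
  have hg' : S.arrows g.left := hg
  obtain ⟨e, he⟩ := hS' g.left hg'
  refine ⟨e, app_injective_of_mono (kernel.ι π) W ?_⟩
  have e1 : ∀ k, ((kernel.ι π).val.app (op W)).hom (basisVal (relLift h0) k W) =
      gval (combHom (c k)) W := fun k => by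
    show gval ((SheafOfModules.ιFree k ≫ relLift h0) ≫ kernel.ι π) W = _
    rw [relLift, ιFree_freeDesc, kernel.lift_ι]
  have e2 : ((kernel.ι π).val.app (op W)).hom (mres (kernel π) g.op z) =
      mres (SheafOfModules.free (R := R.over V) I) g.op z' :=
    PresheafOfModules.naturality_apply (kernel.ι π).val g.op z
  rw [map_sum, e2, hd, map_sum]
  simp only [map_smul, e1]
  have e3 : ∀ k, gval (combHom (c k)) W = ∑ i, (show (R.over V).obj.obj (op W) from
      (R.obj.map W.hom.op).hom (c k i)) • basisVal (𝟙 _) i W := fun k =>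
    gval_combHom (c k) W.hom
  simp only [e3, Finset.smul_sum, smul_smul]
  rw [Finset.sum_comm]
  refine Finset.sum_congr rfl fun i _ => ?_
  rw [← Finset.sum_smul]
  refine Eq.trans (congrArg (· • basisVal _ i W) ?_)
    ((PresheafOfModules.map_smul (SheafOfModules.free (R := R.over V) I).val g.op (d i)
      (basisVal (𝟙 _) i U)).trans (congrArg _ (mres_basisVal (𝟙 _) i g))).symm
  refine Eq.trans ?_ (he i)
  refine Finset.sum_congr rfl fun k _ => ?_
  exact congrArg (fun f : W.left ⟶ V => e k * (R.obj.map f.op).hom (c k i)) (Over.w g).symm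

/-- The relations as generating sections of the kernel. -/
def relSections {K : Type u} [Fintype K] {c : K → I → R.obj.obj (op V)}
    {s : I → M.val.obj (op V)} (h0 : ∀ k, ∑ i, c k i • s i = 0)
    (hc : RelComplete M c s) : (kernel (freeHomMk M s)).GeneratingSections where
  I := K
  s := SheafOfModules.freeHomEquiv _ (relLift h0)
  epi := ((SheafOfModules.freeHomEquiv _).symm_apply_apply (relLift h0)).symm ▸
    epi_relLift h0 hc

/-- A presentation from generators and a complete system of relations. -/
def presentationMk {K : Type u} [Fintype K] {c : K → I → R.obj.obj (op V)}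
    {s : I → M.val.obj (op V)} (hs : Gen M s) (h0 : ∀ k, ∑ i, c k i • s i = 0)
    (hc : RelComplete M c s) : (M.over V).Presentation where
  generators := genSections hs
  relations := (relSections h0 hc).ofEpi (kernelIsoOfEq (genSections_π hs).symm).hom

theorem presentationMk_isFinite {K : Type u} [Fintype K] {c : K → I → R.obj.obj (op V)}
    {s : I → M.val.obj (op V)} (hs : Gen M s) (h0 : ∀ k, ∑ i, c k i • s i = 0)
    (hc : RelComplete M c s) : (presentationMk hs h0 hc).IsFinite where
  isFiniteType_generators := ⟨inferInstanceAs (Finite I)⟩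
  isFiniteType_relations := ⟨inferInstanceAs (Finite K)⟩

theorem exists_gen_of_generators (σ : (M.over V).GeneratingSections) [Fintype σ.I] :
    Gen M (fun i => val₁ M (SheafOfModules.ιFree i ≫ σ.π)) := by
  have e : freeHomMk M (fun i => val₁ M (SheafOfModules.ιFree i ≫ σ.π)) = σ.π :=
    free_hom_ext fun i => val₁_injective M (val₁_ιFree_freeHomMk _ i)
  haveI : Epi (freeHomMk M (fun i => val₁ M (SheafOfModules.ιFree i ≫ σ.π))) := by
    rw [e]; infer_instance
  exact gen_of_epi _

end Groth.Agent.FPLocal
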