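import Groth.Agent.FPLocal.HomGlue
import Groth.Agent.FPLocal.LocFree
import Groth.Agent.FPLocal.Colim
import Groth.Agent.FPLocal.GenFP

/-!
# Morphisms from finitely presented modules into directed colimits
-/

set_option linter.style.haveILetI false
set_option linter.unusedSectionVars false
set_option backward.isDefEq.respectTransparency false
set_option backward.isDefEq.respectTransparency.types false

universe u

open CategoryTheory Limits Opposite TopologicalSpace

noncomputable section

namespace Groth.Agent.FPLocal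

variable {X : TopCat.{u}} {O : TopCat.Sheaf CommRingCat.{u} X}
  {I : Type u} [Preorder I] [Nonempty I] [IsDirected I (· ≤ ·)]
  {D : I ⥤ ModSite.Mod O} {c : Cocone D}

/-- The inclusion of a term in the colimit. -/
abbrev inc (c : Cocone D) (k : I) : D.obj k ⟶ c.pt := c.ι.app k

theorem app_ι_map {a b : I} (f : a ⟶ b) {W : Opens X} (y : ModSite.sect (D.obj a) W) :
    ((inc c b).val.app (op W)).hom (((D.map f).val.app (op W)).hom y) =
      ((inc c a).val.app (op W)).hom y :=
  congrArg (fun φ : D.obj _ ⟶ c.pt => (φ.val.app (op W)).hom y) (c.w f)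

theorem app_map_map {a b d : I} (f : a ⟶ b) (g : b ⟶ d) {W : Opens X}
    (y : ModSite.sect (D.obj a) W) :
    ((D.map g).val.app (op W)).hom (((D.map f).val.app (op W)).hom y) =
      ((D.map (f ≫ g)).val.app (op W)).hom y :=
  (congrArg (fun φ : D.obj a ⟶ D.obj d => (φ.val.app (op W)).hom y) (D.map_comp f g)).symm

/-- Sections over a quasi-compact open which agree in the colimit agree later in the system. -/
theorem exists_eq_later (hc : IsColimit c) {U : Opens X} (hU : IsCompact (U : Set X)) {i : I}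
    {L : Type u} [Finite L] (a b : L → ModSite.sect (D.obj i) U)
    (h : ∀ l, ((inc c i).val.app (op U)).hom (a l) = ((inc c i).val.app (op U)).hom (b l)) :
    ∃ (k : I) (f : i ⟶ k), ∀ l,
      ((D.map f).val.app (op U)).hom (a l) = ((D.map f).val.app (op U)).hom (b l) := by
  let P : ∀ ⦃W : Opens X⦄, (W ⟶ U) → Prop := fun W g => ∃ (k : I) (f : i ⟶ k), ∀ l,
    ((D.map f).val.app (op W)).hom (mres (D.obj i) g.op (a l)) =
      ((D.map f).val.app (op W)).hom (mres (D.obj i) g.op (b l))
  have hP : ∀ x ∈ U, Near x U P := fun x hx => by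
    obtain ⟨W, g, hW, h'⟩ := Locally.near
      (Locally.forall fun l => locally_eq_of_app_eq hc (a l) (b l) (h l)) hx
    choose k f f' hf using h'
    obtain ⟨k₁, hk₁⟩ := Finite.bddAbove_range k
    obtain ⟨k₀, h₁, h₂⟩ := exists_ge_ge i k₁
    refine ⟨W, g, hW, k₀, homOfLE h₁, fun l => ?_⟩
    let t : k l ⟶ k₀ := homOfLE ((hk₁ (Set.mem_range_self l)).trans h₂)
    have e := congrArg ((D.map t).val.app (op W)).hom (hf l)
    rw [app_map_map, app_map_map, show f l ≫ t = homOfLE h₁ from Subsingleton.elim _ _,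
      show f' l ≫ t = homOfLE h₁ from Subsingleton.elim _ _] at e
    exact e
  obtain ⟨ι, _, W, g, hcov, hW⟩ := exists_finite_cover hU hP
  choose k f hf using hW
  obtain ⟨k₁, hk₁⟩ := Finite.bddAbove_range k
  obtain ⟨k₀, h₁, h₂⟩ := exists_ge_ge i k₁
  refine ⟨k₀, homOfLE h₁, fun l => eq_of_cover (D.obj k₀) W g hcov fun q => ?_⟩
  let t : k q ⟶ k₀ := homOfLE ((hk₁ (Set.mem_range_self q)).trans h₂)
  have e := congrArg ((D.map t).val.app (op (W q))).hom (hf q l)
  rw [app_map_map, app_map_map, show f q ≫ t = homOfLE h₁ from Subsingleton.elim _ _] at e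
  rw [← app_mres, ← app_mres, e]

variable (hX : ∀ (ι : Type u) (V : ι → Opens X), iSup V = ⊤ →
      ∃ (J : Type u) (_ : Finite J) (U : J → Opens X), iSup U = ⊤ ∧ (∀ j, ∃ i, U j ≤ V i) ∧
        ∀ j j', IsCompact ((U j ⊓ U j' : Opens X) : Set X))

include hX

/-- A property stable under shrinking that holds near every point holds on a finite cover with
quasi-compact intersections. -/
theorem exists_good_cover {P : Opens X → Prop} (hP : ∀ ⦃V W : Opens X⦄, V ≤ W → P W → P V)
    (h : ∀ x : X, ∃ W : Opens X, x ∈ W ∧ P W) :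
    ∃ (K : Type u) (_ : Finite K) (U : K → Opens X), (∀ x : X, ∃ j, x ∈ U j) ∧ (∀ j, P (U j)) ∧
      ∀ j j', IsCompact ((U j ⊓ U j' : Opens X) : Set X) := by
  choose W hxW hW using h
  obtain ⟨K, hK, U, hU, hle, hcpt⟩ := hX X W
    (eq_top_iff.2 fun x _ => Opens.mem_iSup.2 ⟨x, hxW x⟩)
  refine ⟨K, hK, U, fun x => Opens.mem_iSup.1 (hU ▸ trivial), fun j => ?_, hcpt⟩
  obtain ⟨i, hi⟩ := hle j
  exact hP hi (hW i)

variable (G : ModSite.Mod O)

theorem exists_hom_eq_later [SheafOfModules.IsFinitePresentation (R := ModSite.ringSh O) G]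
    (hc : IsColimit c) {i : I} (a b : G ⟶ D.obj i) (h : a ≫ inc c i = b ≫ inc c i) :
    ∃ (k : I) (f : i ⟶ k), a ≫ D.map f = b ≫ D.map f := by
  let P : Opens X → Prop := fun W => HasGen G W
  obtain ⟨K, _, U, hcov, hU, hcpt⟩ := exists_good_cover hX (P := P)
    (fun V W hVW h => h.restrict (homOfLE hVW)) fun x => by
      obtain ⟨W, g, hW, hg⟩ := Locally.near
        (exists_sieve_hasRels (R := ModSite.ringSh O) G ⊤) (Opens.mem_top x)
      exact ⟨W, hW, hg.hasGen⟩
  choose L hL s hs using hU
  have hk : ∀ j, ∃ (k : I) (f : i ⟶ k), ∀ l,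
      ((D.map f).val.app (op (U j))).hom ((a.val.app (op (U j))).hom (s j l)) =
        ((D.map f).val.app (op (U j))).hom ((b.val.app (op (U j))).hom (s j l)) := fun j => by
    letI := hL j
    exact exists_eq_later hc (by simpa using hcpt j j) _ _ fun l =>
      congrArg (fun φ : G ⟶ c.pt => (φ.val.app (op (U j))).hom (s j l)) h
  choose k f hf using hk
  obtain ⟨k₁, hk₁⟩ := Finite.bddAbove_range k
  obtain ⟨k₀, h₁, h₂⟩ := exists_ge_ge i k₁
  refine ⟨k₀, homOfLE h₁, ?_⟩
  apply SheafOfModules.hom_ext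
  ext V m
  refine eq_of_cover (D.obj k₀) (fun j => V.unop ⊓ U j) (fun j => homOfLE inf_le_left)
    (fun x hx => (hcov x).imp fun j hj => ⟨hx, hj⟩) fun j => ?_
  rw [← app_mres, ← app_mres]
  refine @app_eq_of_gen _ _ _ _ _ _ _ _ (hL j) _ (hs j) (a ≫ D.map (homOfLE h₁))
    (b ≫ D.map (homOfLE h₁)) (fun l => ?_) _ (homOfLE inf_le_right) _
  let t : k j ⟶ k₀ := homOfLE ((hk₁ (Set.mem_range_self j)).trans h₂)
  have e := congrArg ((D.map t).val.app (op (U j))).hom (hf j l)
  rw [app_map_map, app_map_map, show f j ≫ t = homOfLE h₁ from Subsingleton.elim _ _] at e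
  exact e

set_option maxHeartbeats 800000 in
theorem exists_hom_rep [SheafOfModules.IsFinitePresentation (R := ModSite.ringSh O) G]
    (hc : IsColimit c) (ψ : G ⟶ c.pt) : ∃ (i : I) (f : G ⟶ D.obj i), f ≫ inc c i = ψ := by
  classical
  let P : Opens X → Prop := fun W => ∃ (L K : Type u) (_ : Fintype L) (_ : Fintype K)
    (s : L → ModSite.sect G W) (r : K → L → O.obj.obj (op W)) (k : I)
    (y : L → ModSite.sect (D.obj k) W),
    Gen G s ∧ RelComplete G (R := ModSite.ringSh O) r s ∧ (∀ q, comb O (D.obj k) (r q) y = 0) ∧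
      ∀ l, ((inc c k).val.app (op W)).hom (y l) = (ψ.val.app (op W)).hom (s l)
  have hPres : ∀ ⦃V W : Opens X⦄, V ≤ W → P W → P V := by
    rintro V W hVW ⟨L, K, _, _, s, r, k, y, hs, hr, hy, he⟩
    let g : V ⟶ W := homOfLE hVW
    refine ⟨L, K, inferInstance, inferInstance, fun l => mres G g.op (s l),
      fun q l => ores O g (r q l), k, fun l => mres (D.obj k) g.op (y l), hs.restrict g,
      hr.restrict g, fun q => ?_, fun l => ?_⟩
    · rw [← mres_comb, hy, map_zero]
    · rw [app_mres, app_mres]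
      exact congrArg (mres c.pt g.op) (he l)
  have hP : ∀ x : X, ∃ W : Opens X, x ∈ W ∧ P W := fun x => by
    obtain ⟨U, g₀, hxU, L, K, _, _, s, r, hs, hr0, hr⟩ := Locally.near
      (exists_sieve_hasRels (R := ModSite.ringSh O) G ⊤) (Opens.mem_top x)
    obtain ⟨W, g, hxW, hW⟩ := Locally.near
      (Locally.forall fun l => locally_exists_rep hc ((ψ.val.app (op U)).hom (s l))) hxU
    choose a y hy using hW
    obtain ⟨k, hk⟩ := Finite.bddAbove_range a
    let y' : L → ModSite.sect (D.obj k) W := fun l =>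
      ((D.map (homOfLE (hk (Set.mem_range_self l)))).val.app (op W)).hom (y l)
    let r' : K → L → O.obj.obj (op W) := fun q l => ores O g (r q l)
    have hy' : ∀ l, ((inc c k).val.app (op W)).hom (y' l) =
        (ψ.val.app (op W)).hom (mres G g.op (s l)) := fun l => by
      rw [app_mres ψ g]
      exact (app_ι_map (homOfLE (hk (Set.mem_range_self l))) (y l)).trans (hy l)
    have h0 : ∀ q, ((inc c k).val.app (op W)).hom (comb O (D.obj k) (r' q) y') =
        ((inc c k).val.app (op W)).hom 0 := fun q => by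
      have e : (ψ.val.app (op W)).hom (comb O G (r' q) fun l => mres G g.op (s l)) = 0 := by
        rw [show comb O G (r' q) (fun l => mres G g.op (s l)) = mres G g.op (∑ l, r q l • s l) from
          (mres_comb g (r q) s).symm, hr0, map_zero, map_zero]
      rw [map_zero]
      refine Eq.trans ?_ e
      rw [app_comb, app_comb]
      exact congrArg (comb O c.pt _) (funext hy')
    obtain ⟨Z, l₀, hxZ, hZ⟩ := Locally.near
      (Locally.forall fun q => locally_eq_of_app_eq hc _ _ (h0 q)) hxW
    choose k' f f' hf using hZ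
    obtain ⟨k₁, hk₁⟩ := Finite.bddAbove_range k'
    obtain ⟨k₀, h₁, h₂⟩ := exists_ge_ge k k₁
    refine ⟨Z, hxZ, L, K, inferInstance, inferInstance, fun l => mres G (l₀ ≫ g).op (s l),
      fun q l => ores O (l₀ ≫ g) (r q l), k₀,
      fun l => ((D.map (homOfLE h₁)).val.app (op Z)).hom (mres (D.obj k) l₀.op (y' l)),
      hs.restrict _, hr.restrict _, fun q => ?_, fun l => ?_⟩
    · let t : k' q ⟶ k₀ := homOfLE ((hk₁ (Set.mem_range_self q)).trans h₂)
      have e := congrArg ((D.map t).val.app (op Z)).hom (hf q)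
      rw [map_zero, map_zero, map_zero, app_map_map,
        show f q ≫ t = homOfLE h₁ from Subsingleton.elim _ _, mres_comb, app_comb] at e
      refine Eq.trans ?_ e
      exact congrArg (fun a => comb O (D.obj k₀) a _) (funext fun l => ores_comp O l₀ g (r q l))
    · simp only [mres_comp']
      rw [app_mres ψ l₀, ← hy']
      exact (app_ι_map (homOfLE h₁) _).trans (app_mres (inc c k) l₀ (y' l))
  obtain ⟨Q, _, U, hcov, hU, hcpt⟩ := exists_good_cover hX hPres hP
  choose L K hL hK s r k y hs hr hy he using hU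
  obtain ⟨k₁, hk₁⟩ := Finite.bddAbove_range k
  let y₁ : ∀ j, L j → ModSite.sect (D.obj k₁) (U j) := fun j l =>
    ((D.map (homOfLE (hk₁ (Set.mem_range_self j)))).val.app (op (U j))).hom (y j l)
  have he₁ : ∀ j l, ((inc c k₁).val.app (op (U j))).hom (y₁ j l) =
      (ψ.val.app (op (U j))).hom (s j l) := fun j l =>
    (app_ι_map (homOfLE (hk₁ (Set.mem_range_self j))) (y j l)).trans (he j l)
  -- compare on overlaps
  have hov : ∀ p : Q × Q, ∃ k : I, ∀ (k₂ : I) (_ : k ≤ k₂) (t : k₁ ⟶ k₂) (l : L p.2) ⦃W : Opens X⦄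
      (h : W ⟶ U p.1) (h' : W ⟶ U p.2), Locally (Opens.grothendieckTopology X) W fun Z g =>
        ∃ b : L p.1 → O.obj.obj (op Z),
          @comb _ _ _ O G _ _ (hL p.1) b (fun i => mres G (g ≫ h).op (s p.1 i)) =
            mres G (g ≫ h').op (s p.2 l) ∧
          @comb _ _ _ O (D.obj k₂) _ _ (hL p.1) b
              (fun i => mres (D.obj k₂) (g ≫ h).op (((D.map t).val.app (op (U p.1))).hom (y₁ p.1 i))) =
            mres (D.obj k₂) (g ≫ h').op (((D.map t).val.app (op (U p.2))).hom (y₁ p.2 l)) := by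
    rintro ⟨j, j'⟩
    letI := hL j
    letI := hL j'
    let V := U j ⊓ U j'
    let v : V ⟶ U j := homOfLE inf_le_left
    let v' : V ⟶ U j' := homOfLE inf_le_right
    let S : ∀ ⦃W : Opens X⦄, (W ⟶ V) → Prop := fun W g => ∃ (k : I) (t : k₁ ⟶ k)
      (b : L j' → L j → O.obj.obj (op W)), ∀ l,
        comb O G (b l) (fun i => mres G (g ≫ v).op (s j i)) = mres G (g ≫ v').op (s j' l) ∧
        comb O (D.obj k) (b l)
            (fun i => mres (D.obj k) (g ≫ v).op (((D.map t).val.app (op (U j))).hom (y₁ j i))) =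
          mres (D.obj k) (g ≫ v').op (((D.map t).val.app (op (U j'))).hom (y₁ j' l))
    have hS : ∀ x ∈ V, Near x V S := fun x hx => by
      obtain ⟨W, g, hxW, hW⟩ := Locally.near
        (Locally.forall fun l => ((hs j).restrict v).locally_comb (mres G v'.op (s j' l))) hx
      choose b hb using hW
      let z : L j' → ModSite.sect (D.obj k₁) W := fun l =>
        comb O (D.obj k₁) (b l) (fun i => mres (D.obj k₁) (g ≫ v).op (y₁ j i)) -
          mres (D.obj k₁) (g ≫ v').op (y₁ j' l)
      have hz : ∀ l, ((inc c k₁).val.app (op W)).hom (z l) =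
          ((inc c k₁).val.app (op W)).hom 0 := fun l => by
        have eψ := congrArg (ψ.val.app (op W)).hom (hb l)
        rw [app_comb, app_mres ψ g, app_mres ψ v', ← he₁] at eψ
        rw [map_zero, map_sub, sub_eq_zero]
        refine (app_comb (inc c k₁) (b l) _).trans (Eq.trans ?_
          (eψ.trans ((mres_comp' g v' _).symm.trans (app_mres (inc c k₁) (g ≫ v') (y₁ j' l)).symm)))
        refine congrArg (comb O c.pt _) (funext fun i => ?_)
        refine (app_mres (inc c k₁) (g ≫ v) (y₁ j i)).trans ?_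
        rw [app_mres ψ g, app_mres ψ v]
        exact (mres_comp' g v _).trans (congrArg _ (congrArg _ (he₁ j i)))
      obtain ⟨Z, q, hxZ, hZ⟩ := Locally.near
        (Locally.forall fun l => locally_eq_of_app_eq hc _ _ (hz l)) hxW
      choose k' f f' hf using hZ
      obtain ⟨k₂, hk₂⟩ := Finite.bddAbove_range k'
      obtain ⟨k₀, h₁, h₂⟩ := exists_ge_ge k₁ k₂
      refine ⟨Z, q ≫ g, hxZ, k₀, homOfLE h₁, fun l i => ores O q (b l i), fun l => ⟨?_, ?_⟩⟩
      · have e := congrArg (mres G q.op) (hb l)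
        rw [mres_comb] at e
        simp only [← mres_comp', Category.assoc] at e ⊢
        exact e
      · let t : k' l ⟶ k₀ := homOfLE ((hk₂ (Set.mem_range_self l)).trans h₂)
        have e := congrArg ((D.map t).val.app (op Z)).hom (hf l)
        rw [map_zero, map_zero, map_zero, app_map_map,
          show f l ≫ t = homOfLE h₁ from Subsingleton.elim _ _, map_sub, map_sub, sub_eq_zero,
          mres_comb, app_comb] at e
        simp only [← mres_comp', app_mres, Category.assoc] at e ⊢
        exact e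
    obtain ⟨ι', _, W, g, hcovV, hW⟩ := exists_finite_cover (hcpt j j') hS
    choose kk tt b hb using hW
    obtain ⟨k₂, hk₂⟩ := Finite.bddAbove_range kk
    refine ⟨k₂, fun k₃ hk₃ t l Z h h' => ?_⟩
    refine locally_of_near (fun A B e g' hg => ?_) fun x hx => ?_
    · obtain ⟨b', hb₁, hb₂⟩ := hg
      refine ⟨fun i => ores O e (b' i), ?_, ?_⟩
      · have e1 := congrArg (mres G e.op) hb₁
        rw [mres_comb] at e1
        simp only [← mres_comp', Category.assoc] at e1 ⊢
        exact e1
      · have e1 := congrArg (mres (D.obj k₃) e.op) hb₂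
        rw [mres_comb] at e1
        simp only [← mres_comp', Category.assoc] at e1 ⊢
        exact e1
    · obtain ⟨a, ha⟩ := hcovV x ⟨h.le hx, h'.le hx⟩
      let A := Z ⊓ W a
      let π : A ⟶ W a := homOfLE inf_le_right
      let π' : A ⟶ Z := homOfLE inf_le_left
      refine ⟨A, π', ⟨hx, ha⟩, fun i => ores O π (b a l i), ?_, ?_⟩
      · have e1 := congrArg (mres G π.op) (hb a l).1
        rw [mres_comb] at e1
        simp only [← mres_comp'] at e1
        rw [show π' ≫ h = π ≫ g a ≫ v from Subsingleton.elim _ _,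
          show π' ≫ h' = π ≫ g a ≫ v' from Subsingleton.elim _ _]
        exact e1
      · let u : kk a ⟶ k₃ := homOfLE ((hk₂ (Set.mem_range_self a)).trans hk₃)
        have e1 := congrArg (mres (D.obj k₃) π.op)
          (congrArg ((D.map u).val.app (op (W a))).hom (hb a l).2)
        rw [app_comb, mres_comb] at e1
        simp only [← mres_comp', app_mres, app_map_map,
          show tt a ≫ u = t from Subsingleton.elim _ _] at e1 ⊢
        rw [show π' ≫ h = π ≫ g a ≫ v from Subsingleton.elim _ _,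
          show π' ≫ h' = π ≫ g a ≫ v' from Subsingleton.elim _ _]
        exact e1
  choose kp hkp using hov
  obtain ⟨k₂, hk₂⟩ := Finite.bddAbove_range kp
  obtain ⟨k₃, h₁, h₂⟩ := exists_ge_ge k₁ k₂
  let t : k₁ ⟶ k₃ := homOfLE h₁
  let y₃ : ∀ j, L j → ModSite.sect (D.obj k₃) (U j) := fun j l =>
    ((D.map t).val.app (op (U j))).hom (y₁ j l)
  obtain ⟨f, hf⟩ := exists_hom_of_compatible (M := G) (N := D.obj k₃) U
    (fun V => locally_of_near (fun A B e g ⟨j, ⟨q⟩⟩ => ⟨j, ⟨e ≫ q⟩⟩) fun x hx => by
      obtain ⟨j, hj⟩ := hcov x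
      exact ⟨V ⊓ U j, homOfLE inf_le_left, ⟨hx, hj⟩, j, ⟨homOfLE inf_le_right⟩⟩)
    L K s hs r hr y₃ (fun j q => by
      letI := hL j
      have e := congrArg ((D.map t).val.app (op (U j))).hom
        (congrArg ((D.map (homOfLE (hk₁ (Set.mem_range_self j)))).val.app (op (U j))).hom (hy j q))
      rw [app_comb, app_comb, map_zero, map_zero] at e
      exact e)
    (fun j j' W h h' l =>
      hkp (j, j') k₃ ((hk₂ (Set.mem_range_self (j, j'))).trans h₂) t l h h')
  refine ⟨k₃, f, ?_⟩
  apply SheafOfModules.hom_ext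
  ext V m
  refine eq_of_cover c.pt (fun j => V.unop ⊓ U j) (fun j => homOfLE inf_le_left)
    (fun x hx => (hcov x).imp fun j hj => ⟨hx, hj⟩) fun j => ?_
  rw [← app_mres, ← app_mres]
  refine @app_eq_of_gen _ _ _ _ _ _ _ _ (hL j) _ (hs j) (f ≫ inc c k₃) ψ (fun l => ?_) _
    (homOfLE inf_le_right) _
  show ((inc c k₃).val.app (op (U j))).hom ((f.val.app (op (U j))).hom (s j l)) = _
  rw [hf]
  exact (app_ι_map t _).trans (he₁ j l)

theorem preservesColimit_coyoneda [SheafOfModules.IsFinitePresentation (R := ModSite.ringSh O) G] :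
    PreservesColimit D (coyoneda.obj (Opposite.op G)) := by
  refine preservesColimit_of_preserves_colimit_cocone (colimit.isColimit D)
    (Types.FilteredColimit.isColimitOf' _ _ (fun x => ?_) fun i a b h => ?_)
  · obtain ⟨i, f, hf⟩ := exists_hom_rep hX G (colimit.isColimit D) x
    exact ⟨i, f, hf.symm⟩
  · exact exists_hom_eq_later hX G (colimit.isColimit D) a b h

end Groth.Agent.FPLocal
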