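import Groth.Agent.FPLocal.Basis

/-!
# Morphisms from values on local generators
-/

set_option linter.style.haveILetI false
set_option linter.unusedSectionVars false
set_option backward.isDefEq.respectTransparency false
set_option backward.isDefEq.respectTransparency.types false

universe u

open CategoryTheory Limits Opposite

noncomputable section

namespace Groth.Agent.FPLocal

variable {C : Type u} [SmallCategory C] {J : GrothendieckTopology C} {O : Sheaf J CommRingCat.{u}}
  {M N : ModSite.Mod O}

theorem comb_add {V : C} {I : Type u} [Fintype I] (a b : I → O.obj.obj (op V))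
    (s : I → ModSite.sect M V) : comb O M (a + b) s = comb O M a s + comb O M b s :=
  (Finset.sum_congr rfl fun i _ => add_smul _ _ (s i)).trans Finset.sum_add_distrib

theorem comb_smul {V : C} {I : Type u} [Fintype I] (r : O.obj.obj (op V))
    (a : I → O.obj.obj (op V)) (s : I → ModSite.sect M V) :
    comb O M (fun i => r * a i) s =
      (show (ModSite.ringSh O).obj.obj (op V) from r) • comb O M a s :=
  (Finset.sum_congr rfl fun i _ =>
    mul_smul (show (ModSite.ringSh O).obj.obj (op V) from r) _ (s i)).trans Finset.smul_sum.symm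

/-- Combinations of relations vanish on values satisfying the relations. -/
theorem comb_rel_eq_zero {V : C} {I K : Type u} [Fintype I] [Fintype K]
    (e : K → O.obj.obj (op V)) (c : K → I → O.obj.obj (op V)) (y : I → ModSite.sect M V)
    (h : ∀ k, comb O M (c k) y = 0) : comb O M (fun i => ∑ k, e k * c k i) y = 0 := by
  rw [← comb_comb]
  refine Finset.sum_eq_zero fun k _ => ?_
  show _ • comb O M (c k) y = 0
  rw [h]
  exact smul_zero _

/-- Compatible values on local generators, satisfying the relations, define a morphism. -/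
theorem exists_hom_of_compatible {ι : Type u} (U : ι → C)
    (hcov : ∀ V : C, Locally J V fun W _ => ∃ j, Nonempty (W ⟶ U j))
    (I K : ι → Type u) [∀ j, Fintype (I j)] [∀ j, Fintype (K j)]
    (s : ∀ j, I j → ModSite.sect M (U j)) (hs : ∀ j, Gen M (s j))
    (c : ∀ j, K j → I j → O.obj.obj (op (U j)))
    (hc : ∀ j, RelComplete M (R := ModSite.ringSh O) (c j) (s j))
    (y : ∀ j, I j → ModSite.sect N (U j)) (hy : ∀ j k, comb O N (c j k) (y j) = 0)
    (hover : ∀ j j' ⦃W : C⦄ (h : W ⟶ U j) (h' : W ⟶ U j') (l : I j'),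
      Locally J W fun Z k => ∃ b : I j → O.obj.obj (op Z),
        comb O M b (fun i => mres M (k ≫ h).op (s j i)) = mres M (k ≫ h').op (s j' l) ∧
        comb O N b (fun i => mres N (k ≫ h).op (y j i)) = mres N (k ≫ h').op (y j' l)) :
    ∃ f : M ⟶ N, ∀ j l, (f.val.app (op (U j))).hom (s j l) = y j l := by
  classical
  let Γ : ∀ V : C, ModSite.sect M V → ModSite.sect N V → Prop := fun V m n =>
    ∀ j ⦃W : C⦄ (g : W ⟶ V) (h : W ⟶ U j), Locally J W fun Z k => ∃ a : I j → O.obj.obj (op Z),
      comb O M a (fun i => mres M (k ≫ h).op (s j i)) = mres M (k ≫ g).op m ∧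
      comb O N a (fun i => mres N (k ≫ h).op (y j i)) = mres N (k ≫ g).op n
  -- functionality
  have huniq : ∀ (V : C) m n n', Γ V m n → Γ V m n' → n = n' := by
    intro V m n n' h₁ h₂
    refine eq_of_locally ((hcov V).bind fun W g hW => ?_)
    obtain ⟨j, ⟨h⟩⟩ := hW
    refine ((h₁ j g h).and (h₂ j g h)).bind fun Z k hk => ?_
    obtain ⟨⟨a, ha, ha'⟩, ⟨b, hb, hb'⟩⟩ := hk
    have h0 : comb O M (a - b) (fun i => mres M (k ≫ h).op (s j i)) = 0 := by
      rw [comb_sub, ha, hb, sub_self]
    refine Locally.mono (hc j (k ≫ h) (a - b) h0) fun Y l hl => ?_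
    obtain ⟨e₀, he⟩ := hl
    let e : K j → O.obj.obj (op Y) := e₀
    have hz : comb O N (fun i => ores O l ((a - b) i)) (fun i => mres N (l ≫ k ≫ h).op (y j i)) = 0 := by
      rw [show (fun i => ores O l ((a - b) i)) =
        fun i => ∑ x, e x * ores O (l ≫ k ≫ h) (c j x i) from funext fun i => (he i).symm]
      refine comb_rel_eq_zero e _ _ fun x => ?_
      rw [← mres_comb, hy, map_zero]
    have e1 : mres N l.op (comb O N (a - b) (fun i => mres N (k ≫ h).op (y j i))) = 0 := by
      rw [mres_comb]
      refine Eq.trans ?_ hz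
      exact congrArg (comb O N _) (funext fun i => (mres_comp' l (k ≫ h) (y j i)).symm)
    rw [comb_sub, ha', hb', map_sub, sub_eq_zero] at e1
    show mres N ((l ≫ k) ≫ g).op n = mres N ((l ≫ k) ≫ g).op n'
    rw [Category.assoc, mres_comp', e1, ← mres_comp']
  -- restriction
  have hres : ∀ ⦃V W : C⦄ (g : W ⟶ V) m n, Γ V m n → Γ W (mres M g.op m) (mres N g.op n) := by
    intro V W g m n h j Z k l
    refine (h j (k ≫ g) l).mono fun Y p hp => ?_
    obtain ⟨a, ha, ha'⟩ := hp
    exact ⟨a, by rw [ha, ← mres_comp', Category.assoc], by rw [ha', ← mres_comp', Category.assoc]⟩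
  have hadd : ∀ (V : C) m m' n n', Γ V m n → Γ V m' n' → Γ V (m + m') (n + n') := by
    intro V m m' n n' h h' j W g l
    refine ((h j g l).and (h' j g l)).mono fun Y p hp => ?_
    obtain ⟨⟨a, ha, ha'⟩, b, hb, hb'⟩ := hp
    exact ⟨a + b, by rw [comb_add, ha, hb, map_add], by rw [comb_add, ha', hb', map_add]⟩
  have hsmul : ∀ (V : C) (r : (ModSite.ringSh O).obj.obj (op V)) m n,
      Γ V m n → Γ V (r • m) (r • n) := by
    intro V r m n h j W g l
    refine (h j g l).mono fun Y p hp => ?_
    obtain ⟨a, ha, ha'⟩ := hp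
    refine ⟨fun i => ores O (p ≫ g) (show O.obj.obj (op V) from r) * a i, ?_, ?_⟩
    · rw [comb_smul, ha, mres_smul]; rfl
    · rw [comb_smul, ha', mres_smul]; rfl
  -- the values at the generators
  have hgen : ∀ j l, Γ (U j) (s j l) (y j l) := fun j l j' W g h => hover j' j h g l
  -- totality
  have htot : ∀ (V : C) m, Locally J V fun W g => ∃ n, Γ W (mres M g.op m) n := by
    intro V m
    refine (hcov V).bind fun W g hW => ?_
    obtain ⟨j, ⟨h⟩⟩ := hW
    refine ((hs j).locally h (mres M g.op m)).mono fun Z k hk => ?_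
    obtain ⟨a, ha⟩ := hk
    refine ⟨comb O N a (fun i => mres N (k ≫ h).op (y j i)), ?_⟩
    intro j' Z' p h'
    refine ((Locally.forall fun i => hgen j i j' (p ≫ k ≫ h) h')).mono fun Y q hq => ?_
    choose b hb hb' using hq
    refine ⟨fun x => ∑ i, ores O (q ≫ p) (show O.obj.obj (op Z) from a i) * b i x, ?_, ?_⟩
    · rw [← comb_comb, funext hb, ← mres_comp', show (k ≫ g) = (k ≫ g) from rfl]
      have e := congrArg (mres M (q ≫ p).op) ha
      rw [comb_eq, mres_comb, ← mres_comp'] at e
      refine Eq.trans ?_ (e.trans (by simp only [mres_comp']))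
      refine congrArg (comb O M _) (funext fun i => ?_)
      rw [← mres_comp', Category.assoc]
    · rw [← comb_comb, funext hb', mres_comb]
      refine congrArg (comb O N _) (funext fun i => ?_)
      rw [← mres_comp', Category.assoc]
  obtain ⟨f, hf⟩ := exists_hom_of_graph Γ hres hadd hsmul huniq htot
  exact ⟨f, fun j l => hf _ _ _ (hgen j l)⟩

end Groth.Agent.FPLocal
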