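import Groth.Agent.FPLocal.StalkBasis
import Groth.Agent.PullFlat.Invertible
import Mathlib.RingTheory.LocalRing.Basic
import Mathlib.RingTheory.Ideal.Operations

/-!
# Invertible modules on locally ringed spaces are locally free of rank one
-/

set_option linter.style.haveILetI false
set_option linter.unusedSectionVars false
set_option backward.isDefEq.respectTransparency false
set_option backward.isDefEq.respectTransparency.types false

universe u

open CategoryTheory Limits Opposite TopologicalSpace

noncomputable section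

namespace Groth.Agent.FPLocal

variable {X : TopCat.{u}} {O : TopCat.Sheaf CommRingCat.{u} X} {L B : ModSite.Mod O} {x : X}

theorem near_isUnit_of_fgerm {U : Opens X} (hx : x ∈ U) (r : O.obj.obj (op U))
    (h : IsUnit (fgerm O hx r)) : Near x U fun _ g => IsUnit (ores O g r) := by
  obtain ⟨z, hz⟩ := isUnit_iff_exists_inv.1 h
  obtain ⟨W, g, hW, hs⟩ := near_exists_fgerm (O := O) hx z
  obtain ⟨s, rfl⟩ := hs hW
  have e : fgerm O hW (ores O g r * s) = fgerm O hW 1 := by
    rw [map_mul, fgerm_ores, map_one]; exact hz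
  obtain ⟨Z, k, hZ, hk⟩ := near_of_fgerm_eq hW _ _ e
  refine ⟨Z, k ≫ g, hZ, isUnit_iff_exists_inv.2 ⟨ores O k s, ?_⟩⟩
  rw [ores_comp, ← map_mul, hk, map_one]

variable (e : ModTensor.tens O L B ≅ ModSite.unit O)

/-- The pairing of sections given by a trivialisation of a tensor product. -/
def pairing {W : Opens X} (l : ModSite.sect L W) (b : ModSite.sect B W) : O.obj.obj (op W) :=
  ModTensor.lin ((SheafOfModules.forget _).map e.hom) (op W) (PullFlat.pairT O L B l b)

theorem ores_pairing {W V : Opens X} (g : W ⟶ V) (l : ModSite.sect L V) (b : ModSite.sect B V) :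
    ores O g (pairing e l b) = pairing e (mres L g.op l) (mres B g.op b) :=
  ((ModTensor.lin_res ((SheafOfModules.forget _).map e.hom) g.op _).symm).trans
    (congrArg _ (PullFlat.res_pairT O L B g l b))

theorem pairing_add_left {W : Opens X} (t t' : ModSite.sect L W) (b : ModSite.sect B W) :
    pairing e (t + t') b = pairing e t b + pairing e t' b :=
  (congrArg (ModTensor.lin _ (op W)) (PullFlat.pairT_add_left O L B t t' b)).trans (map_add _ _ _)

theorem pairing_smul {W : Opens X} (r : O.obj.obj (op W)) (t : ModSite.sect L W)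
    (b : ModSite.sect B W) :
    pairing e ((show (ModSite.ringSh O).obj.obj (op W) from r) • t) b = r * pairing e t b :=
  (congrArg (ModTensor.lin _ (op W)) (PullFlat.pairT_smul_left O L B r t b)).trans
    (map_smul _ r _)

theorem pairing_sub_smul {W : Opens X} (r : O.obj.obj (op W)) (m t : ModSite.sect L W)
    (b : ModSite.sect B W) :
    pairing e (m - (show (ModSite.ringSh O).obj.obj (op W) from r) • t) b =
      pairing e m b - r * pairing e t b := by
  rw [eq_sub_iff_add_eq, ← pairing_smul e r t b, ← pairing_add_left e, sub_add_cancel]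

theorem pairing_smul_right {W : Opens X} (r : O.obj.obj (op W)) (t : ModSite.sect L W)
    (b : ModSite.sect B W) :
    pairing e t ((show (ModSite.ringSh O).obj.obj (op W) from r) • b) = r * pairing e t b :=
  (congrArg (ModTensor.lin _ (op W)) (PullFlat.pairT_smul_right O L B r t b)).trans
    (map_smul _ r _)

theorem pairing_add_right {W : Opens X} (t : ModSite.sect L W) (b b' : ModSite.sect B W) :
    pairing e t (b + b') = pairing e t b + pairing e t b' :=
  (congrArg (ModTensor.lin _ (op W)) (PullFlat.pairT_add_right O L B t b b')).trans (map_add _ _ _)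

/-- A section orthogonal to a dual partner of a section is zero. -/
theorem eq_zero_of_pairing {W : Opens X} (t : ModSite.sect L W) (b : ModSite.sect B W)
    (h1 : pairing e t b = 1) (l : ModSite.sect L W) (hl : pairing e l b = 0) : l = 0 := by
  classical
  have hp : PullFlat.pairT O L B l b = 0 :=
    app_injective_of_mono e.hom W (hl.trans (map_zero _).symm)
  obtain ⟨S, hS, h⟩ := PullFlat.loc_of_sum_pairT_eq_zero O L B (r := 1) (fun _ => l) (fun _ => b)
    (by simpa using hp)
  refine eq_of_locally (M := L) ⟨S, hS, fun Z g hg => ?_⟩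
  obtain ⟨k, p, s, A, A', y, hm, hA', hq⟩ := h g hg
  let ψ : ModSite.sect B Z →+ O.obj.obj (op Z) :=
    AddMonoidHom.mk' (pairing e (mres L g.op t)) (pairing_add_right e _)
  have hψ : ∀ (r : O.obj.obj (op Z)) (b' : (ModTensor.pre O B).obj (op Z)),
      ψ (r • b') = r * ψ b' := fun r b' => pairing_smul_right e r _ b'
  have h1' : ψ (mres B g.op b) = 1 := by
    show pairing e (mres L g.op t) (mres B g.op b) = 1
    rw [← ores_pairing, h1, map_one]
  have hq' : ∀ q, A 0 q = -∑ i, ψ (s i) * A' i q := fun q => by
    have := congrArg ψ (hq q)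
    rw [map_add, map_zero, map_sum, map_sum, Fin.sum_univ_one, hψ] at this
    rw [show ψ (ModTensor.res (ModTensor.pre O B) g.op b) = 1 from h1', mul_one] at this
    refine eq_neg_of_add_eq_zero_left (Eq.trans ?_ this)
    refine congrArg _ (Finset.sum_congr rfl fun i _ => ?_)
    rw [hψ, mul_comm]
  rw [map_zero]
  refine (hm 0).trans ?_
  simp only [hq', neg_smul, Finset.sum_neg_distrib, Finset.sum_smul, neg_eq_zero]
  rw [Finset.sum_comm]
  refine Finset.sum_eq_zero fun i _ => ?_
  simp only [mul_smul, ← Finset.smul_sum, hA', smul_zero]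

include e in
/-- An invertible module is free of rank one near a point with local ring. -/
theorem exists_basis_of_invertible
    [IsLocalRing (ModSite.stalkRing (pt x) O)] {U : Opens X} (hxU : x ∈ U) :
    ∃ (W : Opens X) (_ : W ⟶ U) (t : ModSite.sect L W),
      x ∈ W ∧ IsBasisOver L (fun _ : PUnit.{u + 1} => t) := by
  classical
  let one : ModSite.sect (ModTensor.tens O L B) U :=
    ModTensor.lin ((SheafOfModules.forget _).map e.inv) (op U) (1 : O.obj.obj (op U))
  obtain ⟨S, hS, h⟩ := PullFlat.loc_sum_pairT O L B (ι := PUnit.{u + 1}) (fun _ => one)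
  obtain ⟨W₁, g₁, hg₁, hx₁⟩ := (Opens.mem_grothendieckTopology X).1 hS x hxU
  obtain ⟨r, m, n, hmn⟩ := h g₁ hg₁
  have h1 : ∑ j, pairing e (m ⟨⟩ j) (n ⟨⟩ j) = 1 := by
    refine (map_sum (ModTensor.lin ((SheafOfModules.forget _).map e.hom) (op W₁)) _ _).symm.trans ?_
    rw [← hmn ⟨⟩, ModTensor.lin_res]
    refine (congrArg (ModTensor.res _ g₁.op) (congrArg (fun f : ModSite.unit O ⟶ ModSite.unit O =>
      (f.val.app (op U)).hom (1 : O.obj.obj (op U))) e.inv_hom_id)).trans ?_
    exact map_one (ores O g₁)
  obtain ⟨j, hj⟩ : ∃ j, IsUnit (fgerm O hx₁ (pairing e (m ⟨⟩ j) (n ⟨⟩ j))) := by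
    by_contra hc
    push_neg at hc
    refine (IsLocalRing.maximalIdeal.isMaximal (ModSite.stalkRing (pt x) O)).ne_top
      ((Ideal.eq_top_iff_one _).2 ?_)
    rw [← map_one (fgerm O hx₁), ← h1, map_sum]
    exact Submodule.sum_mem _ fun j _ => (IsLocalRing.mem_maximalIdeal _).2 (hc j)
  obtain ⟨W, g, hxW, hu⟩ := near_isUnit_of_fgerm hx₁ _ hj
  obtain ⟨v, hv⟩ := isUnit_iff_exists_inv.1 hu
  let t : ModSite.sect L W :=
    (show (ModSite.ringSh O).obj.obj (op W) from v) • mres L g.op (m ⟨⟩ j)
  let b : ModSite.sect B W := mres B g.op (n ⟨⟩ j)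
  have htb : pairing e t b = 1 := by
    rw [pairing_smul, ← ores_pairing, mul_comm, hv]
  refine ⟨W, g ≫ g₁, t, hxW, fun Z k l => ?_, fun Z k d hd => ?_⟩
  · refine Locally.of_self fun Y q => ⟨fun _ => ores O q (pairing e l (mres B k.op b)), ?_⟩
    have h0 : l - (show (ModSite.ringSh O).obj.obj (op Z) from pairing e l (mres B k.op b)) •
        mres L k.op t = 0 :=
      eq_zero_of_pairing e (mres L k.op t) (mres B k.op b) (by rw [← ores_pairing, htb, map_one]) _
        (by rw [pairing_sub_smul, ← ores_pairing, htb, map_one, mul_one, sub_self])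
    rw [sub_eq_zero] at h0
    rw [Fintype.sum_unique]
    conv_rhs => rw [h0]
    exact (congrArg₂ (· • ·) rfl (mres_comp' q k t)).trans (mres_smul q.op _ _).symm
  · funext i
    have h2 := congrArg (fun l => pairing e l (mres B k.op b))
      (((Fintype.sum_unique fun _ : PUnit.{u + 1} =>
        (show (ModSite.ringSh O).obj.obj (op Z) from d default) • mres L k.op t)).symm.trans hd)
    simp only at h2
    rw [pairing_smul, ← ores_pairing, htb, map_one, mul_one] at h2
    refine h2.trans ?_
    exact (congrArg (fun l => pairing e l (mres B k.op b)) (zero_smul _ (mres L k.op t))).symm.trans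
      ((pairing_smul e 0 _ _).trans (zero_mul _))

end Groth.Agent.FPLocal

namespace Groth.Agent.FPLocal

variable {X : TopCat.{u}} {O : TopCat.Sheaf CommRingCat.{u} X} {L : ModSite.Mod O} {x : X}

/-- The stalk of a module with a one-element basis is free on its germ. -/
theorem germ_basis_bijective {W : Opens X} (hx : x ∈ W) {t : ModSite.sect L W}
    (ht : IsBasisOver L (fun _ : PUnit.{u + 1} => t)) :
    Function.Bijective (fun a : ModSite.stalkRing (pt x) O => a • germ L hx t) := by
  constructor
  · intro a a' h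
    rw [← sub_eq_zero]
    have h0 : (a - a') • germ L hx t = 0 := by rw [sub_smul, sub_eq_zero]; exact h
    obtain ⟨Z, g, hZ, hr⟩ := near_exists_fgerm (O := O) hx (a - a')
    obtain ⟨r, hr⟩ := hr hZ
    have e : germ L hZ (comb O L (fun _ : PUnit.{u + 1} => r) fun _ => mres L g.op t) =
        germ L hZ 0 := by
      rw [germ_comb, Fintype.sum_unique, germ_mres, hr, map_zero]; exact h0
    obtain ⟨Y, k, hY, hk⟩ := near_of_germ_eq L hZ _ _ e
    have h1 := ht.2 (k ≫ g) (fun _ => ores O k r) (by
      rw [map_zero, mres_comb] at hk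
      refine Eq.trans ?_ hk
      exact congrArg (comb O L _) (funext fun _ => mres_comp' k g t))
    rw [← hr, ← fgerm_ores k hY r, show ores O k r = 0 from congrFun h1 PUnit.unit, map_zero]
  · intro z
    obtain ⟨W', g, hW', hz⟩ := near_exists_germ (F := L) hx z
    obtain ⟨m, hm⟩ := hz hW'
    obtain ⟨Y, k, hY, a, ha⟩ := Locally.near ((ht.1.restrict g).locally_comb m) hW'
    refine ⟨fgerm O hY (a default), ?_⟩
    rw [← hm, ← germ_mres L k hY m, ← ha, germ_comb, Fintype.sum_unique, germ_mres, germ_mres]

/-- The locus where a section of a free rank one module generates. -/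
theorem germ_not_mem_smul_iff [IsLocalRing (ModSite.stalkRing (pt x) O)] {W : Opens X} (hx : x ∈ W)
    {t : ModSite.sect L W} (ht : IsBasisOver L (fun _ : PUnit.{u + 1} => t))
    (a : ModSite.stalkRing (pt x) O) :
    a • germ L hx t ∉ (IsLocalRing.maximalIdeal (ModSite.stalkRing (pt x) O)) •
      (⊤ : Submodule (ModSite.stalkRing (pt x) O) (ModSite.stalkAb (pt x) L)) ↔ IsUnit a := by
  constructor
  · intro h
    by_contra hc
    exact h (Submodule.smul_mem_smul ((IsLocalRing.mem_maximalIdeal a).2 hc) Submodule.mem_top)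
  · intro hu h
    obtain ⟨hinj, hsurj⟩ := germ_basis_bijective hx ht
    have key : ∀ z ∈ (IsLocalRing.maximalIdeal (ModSite.stalkRing (pt x) O)) •
        (⊤ : Submodule (ModSite.stalkRing (pt x) O) (ModSite.stalkAb (pt x) L)),
        ∃ c ∈ IsLocalRing.maximalIdeal (ModSite.stalkRing (pt x) O), z = c • germ L hx t := by
      intro z hz
      induction hz using Submodule.smul_induction_on' with
      | smul r hr y _ =>
        obtain ⟨c, rfl⟩ := hsurj y
        exact ⟨r * c, Ideal.mul_mem_right _ _ hr, (mul_smul r c _).symm⟩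
      | add y hy z hz hy' hz' =>
        obtain ⟨c, hc, rfl⟩ := hy'
        obtain ⟨c', hc', rfl⟩ := hz'
        exact ⟨c + c', add_mem hc hc', (add_smul c c' _).symm⟩
    obtain ⟨c, hc, he⟩ := key _ h
    exact (IsLocalRing.mem_maximalIdeal a).1 (hinj he ▸ hc) hu

end Groth.Agent.FPLocal
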