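import Groth.Agent.FPLocal.Factor
import Groth.Prelude.Def_ModSite
import Mathlib.CategoryTheory.Sites.EpiMono
import Mathlib.CategoryTheory.Sites.Abelian

/-!
# Local lifts along epimorphisms of sheaves of modules, and maps out of free modules
-/

set_option linter.style.haveILetI false
set_option backward.isDefEq.respectTransparency false
set_option backward.isDefEq.respectTransparency.types false

universe u

open CategoryTheory Limits Opposite

noncomputable section

namespace Groth.Agent.FPLocal

variable {C : Type u} [SmallCategory C] {J : GrothendieckTopology C} {R : Sheaf J RingCat.{u}}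
  {M N : SheafOfModules.{u} R}

instance isLocallySurjective_toSheaf_map (p : M ⟶ N) [Epi p] :
    Sheaf.IsLocallySurjective ((SheafOfModules.toSheaf.{u} R).map p) := by
  have he : Epi ((SheafOfModules.toSheaf.{u} R).map p) := inferInstance
  exact (Sheaf.isLocallySurjective_iff_epi' AddCommGrpCat.{u}
    ((SheafOfModules.toSheaf.{u} R).map p)).2 he

/-- Sections lift locally along an epimorphism. -/
theorem exists_sieve_preimage (p : M ⟶ N) [Epi p] {V : C} (s : N.val.obj (op V)) :
    ∃ S ∈ J V, ∀ ⦃W : C⦄ (g : W ⟶ V), S.arrows g →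
      ∃ t : M.val.obj (op W), (p.val.app (op W)).hom t = mres N g.op s :=
  ⟨_, Presheaf.imageSieve_mem J ((SheafOfModules.toSheaf R).map p).hom s, fun _ _ hg => by
    obtain ⟨t, ht⟩ := hg
    exact ⟨t, ht⟩⟩

/-- Finitely many sections lift locally along an epimorphism. -/
theorem exists_sieve_preimage_family (p : M ⟶ N) [Epi p] {V : C} {I : Type u} [Finite I]
    (s : I → N.val.obj (op V)) :
    ∃ S ∈ J V, ∀ ⦃W : C⦄ (g : W ⟶ V), S.arrows g →
      ∃ t : I → M.val.obj (op W), ∀ i, (p.val.app (op W)).hom (t i) = mres N g.op (s i) := by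
  classical
  haveI := Fintype.ofFinite I
  choose S hS h using fun i => exists_sieve_preimage p (s i)
  suffices key : ∀ A : Finset I, A.inf S ∈ J V by
    refine ⟨Finset.univ.inf S, key _, fun W g hg => ?_⟩
    choose t ht using fun i => h i g ((Finset.inf_le (Finset.mem_univ i) : Finset.univ.inf S ≤ S i) _ hg)
    exact ⟨t, ht⟩
  intro A
  induction A using Finset.induction with
  | empty => exact J.top_mem V
  | insert a A _ ih =>
    rw [Finset.inf_insert]
    exact J.intersection_covering (hS a) ih

/-- The morphism `free I ⟶ M|V` with given values on the basis. -/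
def freeHomMk {V : C} {I : Type u} (M : SheafOfModules.{u} R) (m : I → M.val.obj (op V)) :
    SheafOfModules.free I ⟶ M.over V :=
  freeDesc fun i => homMk M (m i)

@[simp]
theorem val₁_ιFree_freeHomMk {V : C} {I : Type u} (m : I → M.val.obj (op V)) (i : I) :
    val₁ M (SheafOfModules.ιFree i ≫ freeHomMk M m) = m i := by
  rw [freeHomMk, ιFree_freeDesc, val₁_homMk]

/-- The value at `V` of a global morphism from the structure sheaf. -/
def gval (u : SheafOfModules.unit R ⟶ M) (V : C) : M.val.obj (op V) :=
  (u.val.app (op V)).hom (1 : R.obj.obj (op V))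

theorem mres_gval (u : SheafOfModules.unit R ⟶ M) {W V : C} (g : W ⟶ V) :
    mres M g.op (gval u V) = gval u W :=
  PresheafOfModules.sections_property (M.unitHomEquiv u) g.op

theorem val₁_overFunctor_map (u : SheafOfModules.unit R ⟶ M) (V : C) :
    val₁ M (V := V) ((Iso.refl _).hom ≫ (SheafOfModules.overFunctor R V).map u) = gval u V := rfl

/-- The restriction of a free module is free. -/
def overFreeIso (I : Type u) (V : C) :
    SheafOfModules.free (R := R.over V) I ≅ (SheafOfModules.free (R := R) I).over V :=
  SheafOfModules.mapFreeIso (SheafOfModules.overFunctor R V) I (Iso.refl _)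

theorem val₁_overFreeIso_comp {I : Type u} (ψ : SheafOfModules.free (R := R) I ⟶ M) (V : C)
    (i : I) :
    val₁ M (SheafOfModules.ιFree i ≫ (overFreeIso I V).hom ≫
      (SheafOfModules.overFunctor R V).map ψ) = gval (SheafOfModules.ιFree i ≫ ψ) V := by
  rw [overFreeIso, SheafOfModules.ιFree_mapFreeIso_hom_assoc, ← Functor.map_comp]
  exact val₁_overFunctor_map _ V

/-- A morphism from a direct summand of a finite free module lifts locally along an epimorphism. -/
theorem exists_sieve_lift {E F G : SheafOfModules.{u} R} {I : Type u} [Finite I]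
    (i : E ⟶ SheafOfModules.free I) (r : SheafOfModules.free I ⟶ E) (hir : i ≫ r = 𝟙 E)
    (p : G ⟶ F) [Epi p] (φ : E ⟶ F) (V : C) :
    ∃ S ∈ J V, ∀ ⦃W : C⦄ (g : W ⟶ V), S.arrows g →
      ∃ l : E.over W ⟶ G.over W,
        l ≫ (SheafOfModules.overFunctor R W).map p = (SheafOfModules.overFunctor R W).map φ := by
  obtain ⟨S, hS, h⟩ := exists_sieve_preimage_family p
    (fun j => gval (SheafOfModules.ιFree j ≫ r ≫ φ) V)
  refine ⟨S, hS, fun W g hg => ?_⟩
  obtain ⟨t, ht⟩ := h g hg
  refine ⟨(SheafOfModules.overFunctor R W).map i ≫ (overFreeIso I W).inv ≫ freeHomMk G t, ?_⟩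
  have e : freeHomMk G t ≫ (SheafOfModules.overFunctor R W).map p =
      (overFreeIso I W).hom ≫ (SheafOfModules.overFunctor R W).map (r ≫ φ) := by
    refine free_hom_ext fun j => val₁_injective F ?_
    rw [← Category.assoc, val₁_comp, val₁_ιFree_freeHomMk, ht, mres_gval]
    exact (val₁_overFreeIso_comp (r ≫ φ) W j).symm
  rw [Category.assoc, Category.assoc, e, Iso.inv_hom_id_assoc, ← Functor.map_comp,
    ← Category.assoc, hir, Category.id_comp]

end Groth.Agent.FPLocal
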