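import Groth.Agent.FPLocal.GenFP

/-!
# Extensions, kernels and cokernels of modules of finite type and presentation
-/

set_option linter.style.haveILetI false
set_option linter.unusedSectionVars false
set_option backward.isDefEq.respectTransparency false
set_option backward.isDefEq.respectTransparency.types false

universe u

open CategoryTheory Limits Opposite

noncomputable section

namespace Groth.Agent.FPLocal

variable {C : Type u} [SmallCategory C] {J : GrothendieckTopology C} {R : Sheaf J RingCat.{u}}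
  {M N : SheafOfModules.{u} R}

/-- A property holds on a covering sieve of `X`. -/
def Locally (J : GrothendieckTopology C) (X : C) (P : ∀ ⦃W : C⦄, (W ⟶ X) → Prop) : Prop :=
  ∃ S ∈ J X, ∀ ⦃W : C⦄ (g : W ⟶ X), S.arrows g → P g

theorem Locally.of_self {X : C} {P : ∀ ⦃W : C⦄, (W ⟶ X) → Prop}
    (h : ∀ ⦃W : C⦄ (g : W ⟶ X), P g) : Locally J X P :=
  ⟨⊤, J.top_mem X, fun _ g _ => h g⟩

theorem Locally.bind {X : C} {P Q : ∀ ⦃W : C⦄, (W ⟶ X) → Prop} (h : Locally J X P)
    (h' : ∀ ⦃W : C⦄ (g : W ⟶ X), P g → Locally J W fun _ k => Q (k ≫ g)) : Locally J X Q := by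
  obtain ⟨S, hS, hP⟩ := h
  choose T hT hQ using fun (W : C) (g : W ⟶ X) (hg : S.arrows g) => h' g (hP g hg)
  refine ⟨Sieve.bind S.arrows fun W g hg => T W g hg, J.bind_covering hS fun W g hg => hT W g hg,
    ?_⟩
  rintro W g ⟨V, k, g', hg', hk, rfl⟩
  exact hQ V g' hg' k hk

theorem Locally.and {X : C} {P Q : ∀ ⦃W : C⦄, (W ⟶ X) → Prop} (h : Locally J X P)
    (h' : Locally J X Q) : Locally J X fun _ g => P g ∧ Q g := by
  obtain ⟨S, hS, hP⟩ := h
  obtain ⟨T, hT, hQ⟩ := h'
  exact ⟨S ⊓ T, J.intersection_covering hS hT, fun _ g hg => ⟨hP g hg.1, hQ g hg.2⟩⟩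

theorem Locally.mono {X : C} {P Q : ∀ ⦃W : C⦄, (W ⟶ X) → Prop} (h : Locally J X P)
    (h' : ∀ ⦃W : C⦄ (g : W ⟶ X), P g → Q g) : Locally J X Q := by
  obtain ⟨S, hS, hP⟩ := h
  exact ⟨S, hS, fun _ g hg => h' g (hP g hg)⟩

theorem Locally.forall {X : C} {ι : Type*} [Finite ι] {P : ι → ∀ ⦃W : C⦄, (W ⟶ X) → Prop}
    (h : ∀ i, Locally J X (P i)) : Locally J X fun _ g => ∀ i, P i g := by
  classical
  haveI := Fintype.ofFinite ι
  suffices key : ∀ A : Finset ι, Locally J X fun _ g => ∀ i ∈ A, P i g from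
    (key Finset.univ).mono fun _ g hg i => hg i (Finset.mem_univ i)
  intro A
  induction A using Finset.induction with
  | empty => exact Locally.of_self fun _ g i hi => absurd hi (Finset.notMem_empty i)
  | insert a A _ ih =>
    refine ((h a).and ih).mono fun _ g hg i hi => ?_
    rcases Finset.mem_insert.mp hi with rfl | hi
    · exact hg.1
    · exact hg.2 i hi

theorem app_mres (p : M ⟶ N) {W V : C} (g : W ⟶ V) (m : M.val.obj (op V)) :
    (p.val.app (op W)).hom (mres M g.op m) = mres N g.op ((p.val.app (op V)).hom m) :=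
  PresheafOfModules.naturality_apply p.val g.op m

theorem mres_smul {X Y : Cᵒᵖ} (h : X ⟶ Y) (r : R.obj.obj X) (m : M.val.obj X) :
    mres M h (r • m) = (R.obj.map h).hom r • mres M h m :=
  PresheafOfModules.map_smul M.val h r m

theorem mres_comp' {Z W V : C} (k : Z ⟶ W) (g : W ⟶ V) (m : M.val.obj (op V)) :
    mres M (k ≫ g).op m = mres M k.op (mres M g.op m) :=
  mres_comp M g.op k.op m

theorem locally_preimage (p : M ⟶ N) [Epi p] {V : C} (n : N.val.obj (op V)) :
    Locally J V fun W g => ∃ t : M.val.obj (op W), (p.val.app (op W)).hom t = mres N g.op n :=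
  exists_sieve_preimage p n

theorem Gen.locally {V : C} {I : Type u} [Fintype I] {s : I → M.val.obj (op V)} (hs : Gen M s)
    {W : C} (g : W ⟶ V) (m : M.val.obj (op W)) :
    Locally J W fun Z h =>
      ∃ a : I → R.obj.obj (op Z), ∑ i, a i • mres M (h ≫ g).op (s i) = mres M h.op m :=
  hs g m

/-- Sections killed by the second map of an exact sequence come locally from the first. -/
theorem locally_preimage_of_exact (S : ShortComplex (SheafOfModules.{u} R)) (hS : S.Exact) {V : C}
    (z : S.X₂.val.obj (op V)) (hz : (S.g.val.app (op V)).hom z = 0) :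
    Locally J V fun W g => ∃ t : S.X₁.val.obj (op W),
      (S.f.val.app (op W)).hom t = mres S.X₂ g.op z := by
  haveI : Epi (kernel.lift S.g S.f S.zero) := hS.epi_kernelLift
  obtain ⟨y, hy⟩ := exists_kernel_preimage S.g z hz
  refine (locally_preimage (kernel.lift S.g S.f S.zero) y).mono fun W g hg => ?_
  obtain ⟨t, ht⟩ := hg
  refine ⟨t, ?_⟩
  have e := congrArg ((kernel.ι S.g).val.app (op W)).hom ht
  rw [app_mres, hy] at e
  refine Eq.trans ?_ e
  exact (congrArg (fun f : S.X₁ ⟶ S.X₂ => (f.val.app (op W)).hom t)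
    (kernel.lift_ι S.g S.f S.zero)).symm

/-- An extension of modules with local generators has local generators. -/
theorem hasGen_extension (S : ShortComplex (SheafOfModules.{u} R)) (hS : S.Exact) [Mono S.f]
    [Epi S.g] {V : C} (h₁ : HasGen S.X₁ V) (h₃ : HasGen S.X₃ V) :
    Locally J V fun W _ => HasGen S.X₂ W := by
  obtain ⟨I, _, u', hu'⟩ := h₁
  obtain ⟨K, _, w', hw'⟩ := h₃
  refine (Locally.forall fun k => locally_preimage S.g (w' k)).mono fun V' g hg => ?_
  choose v hv using hg
  let u := fun i => mres S.X₁ g.op (u' i)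
  have hu : Gen S.X₁ u := hu'.restrict g
  have hw : Gen S.X₃ (fun k => mres S.X₃ g.op (w' k)) := hw'.restrict g
  refine ⟨I ⊕ K, inferInstance, Sum.elim (fun i => (S.f.val.app (op V')).hom (u i)) v, ?_⟩
  intro W k m
  refine (hw.locally k ((S.g.val.app (op W)).hom m)).bind fun Z h hh => ?_
  obtain ⟨a, ha⟩ := hh
  obtain ⟨y, hy⟩ := exists_preimage_of_mono_exact S hS
    (mres S.X₂ h.op m - ∑ j, a j • mres S.X₂ (h ≫ k).op (v j)) (by
      rw [map_sub, map_sum, app_mres, sub_eq_zero]
      refine ha.symm.trans (Finset.sum_congr rfl fun j _ => ?_)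
      rw [map_smul, app_mres, hv])
  refine (hu.locally (h ≫ k) y).mono fun Y l hl => ?_
  obtain ⟨b, hb⟩ := hl
  refine ⟨Sum.elim b fun j => (R.obj.map l.op).hom (a j), ?_⟩
  have e := congrArg (S.f.val.app (op Y)).hom hb
  rw [map_sum, app_mres, hy, map_sub, ← mres_comp', map_sum] at e
  rw [Fintype.sum_sum_type]
  simp only [Sum.elim_inl, Sum.elim_inr]
  rw [← eq_sub_iff_add_eq]
  refine Eq.trans (Finset.sum_congr rfl fun i _ => ?_) (e.trans (congrArg _ ?_))
  · simp only [u, map_smul, app_mres, Category.assoc]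
  · refine Finset.sum_congr rfl fun j _ => ?_
    rw [mres_smul, ← mres_comp', Category.assoc]

/-- The kernel of an epimorphism onto a finitely presented module has local generators. -/
theorem hasGen_kernel (θ : M ⟶ N) [Epi θ] {V : C} (hM : HasGen M V) (hN : HasRels N V) :
    Locally J V fun W _ => HasGen (kernel θ) W := by
  obtain ⟨I, _, u₀, hu₀⟩ := hM
  obtain ⟨L, K, _, _, w₀, c₀, hw₀, hc₀, hcc₀⟩ := hN
  refine ((Locally.forall fun j => locally_preimage θ (w₀ j)).and (Locally.forall fun i =>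
    hw₀.locally (𝟙 V) ((θ.val.app (op V)).hom (u₀ i)))).mono fun V' g hg => ?_
  obtain ⟨h1, h2⟩ := hg
  choose v hv using h1
  choose a ha using h2
  let u := fun i => mres M g.op (u₀ i)
  let w := fun j => mres N g.op (w₀ j)
  let c := fun k j => (R.obj.map g.op).hom (c₀ k j)
  have hu : Gen M u := hu₀.restrict g
  have hcc : RelComplete N c w := hcc₀.restrict g
  have hθu : ∀ i, (θ.val.app (op V')).hom (u i) = ∑ j, a i j • w j := fun i => by
    have e := ha i
    rw [Category.comp_id] at e
    exact (app_mres θ g _).trans e.symm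
  have hc : ∀ k, ∑ j, c k j • w j = 0 := fun k => by
    have e := congrArg (mres N g.op) (hc₀ k)
    rw [map_zero, map_sum] at e
    exact Eq.trans (Finset.sum_congr rfl fun j _ => (mres_smul _ _ _).symm) e
  choose p hp using fun i => exists_kernel_preimage θ (u i - ∑ j, a i j • v j) (by
    rw [map_sub, map_sum, hθu, sub_eq_zero]
    exact Finset.sum_congr rfl fun j _ => by rw [map_smul, hv])
  choose q hq using fun k => exists_kernel_preimage θ (∑ j, c k j • v j) (by
    rw [map_sum]
    exact Eq.trans (Finset.sum_congr rfl fun j _ => by rw [map_smul, hv]) (hc k))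
  refine ⟨I ⊕ K, inferInstance, Sum.elim p q, ?_⟩
  intro W k m
  refine (hu.locally k (((kernel.ι θ).val.app (op W)).hom m)).bind fun Z h hh => ?_
  obtain ⟨b, hb⟩ := hh
  let d : L → R.obj.obj (op Z) := fun j => ∑ i, b i * (R.obj.map (h ≫ k).op).hom (a i j)
  have hd : ∑ j, d j • mres N (h ≫ k).op (w j) = 0 := by
    have e := congrArg (θ.val.app (op Z)).hom hb
    rw [map_sum, app_mres θ h, show (θ.val.app (op W)).hom (((kernel.ι θ).val.app (op W)).hom m) = 0
      from congrArg (fun f : kernel θ ⟶ N => (f.val.app (op W)).hom m) (kernel.condition θ),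
      map_zero] at e
    refine Eq.trans ?_ e
    simp only [d, Finset.sum_smul]
    rw [Finset.sum_comm]
    refine Finset.sum_congr rfl fun i _ => ?_
    rw [map_smul, app_mres, hθu, map_sum, Finset.smul_sum]
    exact Finset.sum_congr rfl fun j _ => by rw [mres_smul, smul_smul]
  refine Locally.mono (hcc (h ≫ k) d hd) fun Y l hl => ?_
  obtain ⟨e, he⟩ := hl
  refine ⟨Sum.elim (fun i => (R.obj.map l.op).hom (b i)) e, app_injective_of_mono (kernel.ι θ) Y ?_⟩
  let φ : Y ⟶ V' := (l ≫ h) ≫ k
  let b' := fun i => (R.obj.map l.op).hom (b i)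
  have h3 : ∀ (r : R.obj.obj (op V')), (R.obj.map φ.op).hom r =
      (R.obj.map l.op).hom ((R.obj.map (h ≫ k).op).hom r) := fun r => by
    rw [show φ.op = (h ≫ k).op ≫ l.op by simp [φ]]
    exact ConcreteCategory.congr_hom (R.obj.map_comp (h ≫ k).op l.op) r
  have hA : ∑ i, b' i • mres M φ.op (∑ j, a i j • v j) =
      ∑ j, (R.obj.map l.op).hom (d j) • mres M φ.op (v j) := by
    simp only [map_sum, mres_smul, Finset.smul_sum, smul_smul, d, map_mul, Finset.sum_smul, b', h3]
    exact Finset.sum_comm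
  have hB : ∑ x, e x • mres M φ.op (∑ j, c x j • v j) =
      ∑ j, (R.obj.map l.op).hom (d j) • mres M φ.op (v j) := by
    simp only [map_sum, mres_smul, Finset.smul_sum, smul_smul]
    rw [Finset.sum_comm]
    refine Finset.sum_congr rfl fun j _ => ?_
    rw [← Finset.sum_smul]
    refine congrArg (· • mres M φ.op (v j)) (Eq.trans ?_ (he j))
    simp only [φ, Category.assoc]
  have hC : ∑ i, b' i • mres M φ.op (u i) =
      mres M (l ≫ h).op (((kernel.ι θ).val.app (op W)).hom m) := by
    rw [mres_comp', ← hb, map_sum]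
    exact Finset.sum_congr rfl fun i _ => by
      rw [mres_smul, ← mres_comp' l (h ≫ k) (u i), show φ = l ≫ h ≫ k from Category.assoc _ _ _]
  rw [Fintype.sum_sum_type, map_add, map_sum, map_sum, app_mres]
  simp only [Sum.elim_inl, Sum.elim_inr, map_smul, app_mres, hp, hq]
  show ∑ i, b' i • mres M φ.op (u i - ∑ j, a i j • v j) +
    ∑ x, e x • mres M φ.op (∑ j, c x j • v j) = _
  rw [hB, ← hA, ← hC, ← Finset.sum_add_distrib]
  refine Finset.sum_congr rfl fun i _ => ?_
  rw [map_sub, smul_sub, sub_add_cancel]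

end Groth.Agent.FPLocal
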