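import Groth.Agent.FPLocal.Ops

/-!
# Extensions, kernels and cokernels: the global statements
-/

set_option linter.style.haveILetI false
set_option linter.unusedSectionVars false
set_option backward.isDefEq.respectTransparency false
set_option backward.isDefEq.respectTransparency.types false

universe u

open CategoryTheory Limits Opposite

noncomputable section

namespace Groth.Agent.FPLocal

variable {C : Type u} [SmallCategory C] {J : GrothendieckTopology C} {R : Sheaf J RingCat.{u}}
  {M N : SheafOfModules.{u} R}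

/-- The cokernel of a map from a module with generators to one with relations has relations. -/
theorem hasRels_cokernel (φ : M ⟶ N) {V : C} (hM : HasGen M V) (hN : HasRels N V) :
    Locally J V fun W _ => HasRels (cokernel φ) W := by
  obtain ⟨I, _, u₀, hu₀⟩ := hM
  obtain ⟨L, K, _, _, w₀, c₀, hw₀, hc₀, hcc₀⟩ := hN
  refine (Locally.forall fun i =>
    hw₀.locally (𝟙 V) ((φ.val.app (op V)).hom (u₀ i))).mono fun V' g hg => ?_
  choose a ha using hg
  let u := fun i => mres M g.op (u₀ i)
  let w := fun j => mres N g.op (w₀ j)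
  let c := fun k j => (R.obj.map g.op).hom (c₀ k j)
  have hu : Gen M u := hu₀.restrict g
  have hw : Gen N w := hw₀.restrict g
  have hcc : RelComplete N c w := hcc₀.restrict g
  have hφu : ∀ i, (φ.val.app (op V')).hom (u i) = ∑ j, a i j • w j := fun i => by
    have e := ha i
    rw [Category.comp_id] at e
    exact (app_mres φ g _).trans e.symm
  have hc : ∀ k, ∑ j, c k j • w j = 0 := fun k => by
    have e := congrArg (mres N g.op) (hc₀ k)
    rw [map_zero, map_sum] at e
    exact Eq.trans (Finset.sum_congr rfl fun j _ => (mres_smul _ _ _).symm) e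
  let π := cokernel.π φ
  refine ⟨L, I ⊕ K, inferInstance, inferInstance, fun j => (π.val.app (op V')).hom (w j),
    Sum.elim a c, ?_, ?_, ?_⟩
  · intro W k m
    refine (locally_preimage π m).bind fun Z h hh => ?_
    obtain ⟨n, hn⟩ := hh
    refine (hw.locally (h ≫ k) n).mono fun Y l hl => ?_
    obtain ⟨b, hb⟩ := hl
    refine ⟨b, ?_⟩
    have e := congrArg (π.val.app (op Y)).hom hb
    rw [map_sum, app_mres, hn, ← mres_comp'] at e
    refine Eq.trans (Finset.sum_congr rfl fun j _ => ?_) e
    rw [map_smul, app_mres, Category.assoc]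
  · rintro (i | k)
    · simp only [Sum.elim_inl]
      rw [← Finset.sum_congr rfl fun j _ => map_smul (π.val.app (op V')).hom (a i j) (w j),
        ← map_sum, ← hφu]
      exact congrArg (fun f : M ⟶ cokernel φ => (f.val.app (op V')).hom (u i))
        (cokernel.condition φ)
    · simp only [Sum.elim_inr]
      rw [← Finset.sum_congr rfl fun j _ => map_smul (π.val.app (op V')).hom (c k j) (w j),
        ← map_sum, hc, map_zero]
  · intro W k d hd
    let z := ∑ j, d j • mres N k.op (w j)
    have hz : (π.val.app (op W)).hom z = 0 := by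
      rw [map_sum]
      refine Eq.trans (Finset.sum_congr rfl fun j _ => ?_) hd
      rw [map_smul, app_mres]
    refine (locally_preimage_of_exact (ShortComplex.mk φ π (cokernel.condition φ))
      (ShortComplex.exact_of_g_is_cokernel _ (cokernelIsCokernel φ)) z hz).bind fun Z h hh => ?_
    obtain ⟨t, ht⟩ := hh
    change (φ.val.app (op Z)).hom t = mres N h.op z at ht
    refine (hu.locally (h ≫ k) t).bind fun Y l hl => ?_
    obtain ⟨b, hb⟩ := hl
    let ψ : Y ⟶ V' := (l ≫ h) ≫ k
    let d' : L → R.obj.obj (op Y) := fun j =>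
      (R.obj.map (l ≫ h).op).hom (d j) - ∑ i, b i * (R.obj.map ψ.op).hom (a i j)
    have h1 : ∑ j, (∑ i, b i * (R.obj.map ψ.op).hom (a i j)) • mres N ψ.op (w j) =
        mres N (l ≫ h).op z := by
      rw [mres_comp', ← ht, ← app_mres, ← hb, map_sum]
      simp only [Finset.sum_smul]
      rw [Finset.sum_comm]
      refine Finset.sum_congr rfl fun i _ => ?_
      rw [map_smul, app_mres, hφu, map_sum, Finset.smul_sum,
        show l ≫ h ≫ k = ψ from (Category.assoc _ _ _).symm]
      exact Finset.sum_congr rfl fun j _ => by rw [mres_smul, smul_smul]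
    have h2 : ∑ j, (R.obj.map (l ≫ h).op).hom (d j) • mres N ψ.op (w j) =
        mres N (l ≫ h).op z := by
      rw [map_sum]
      exact Finset.sum_congr rfl fun j _ => by rw [mres_smul, ← mres_comp' (l ≫ h) k (w j)]
    have hd' : ∑ j, d' j • mres N ψ.op (w j) = 0 := by
      simp only [d', sub_smul, Finset.sum_sub_distrib, h1, h2, sub_self]
    refine Locally.mono (hcc ψ d' hd') fun X f hf => ?_
    obtain ⟨e, he⟩ := hf
    refine ⟨Sum.elim (fun i => (R.obj.map f.op).hom (b i)) e, fun j => ?_⟩
    have hf1 : ∀ r : R.obj.obj (op V'), (R.obj.map ((f ≫ l ≫ h) ≫ k).op).hom r =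
        (R.obj.map f.op).hom ((R.obj.map ψ.op).hom r) := fun r => by
      rw [show ((f ≫ l ≫ h) ≫ k).op = ψ.op ≫ f.op by simp [ψ]]
      exact ConcreteCategory.congr_hom (R.obj.map_comp ψ.op f.op) r
    have hf2 : (R.obj.map (f ≫ l ≫ h).op).hom (d j) =
        (R.obj.map f.op).hom ((R.obj.map (l ≫ h).op).hom (d j)) :=
      ConcreteCategory.congr_hom (R.obj.map_comp (l ≫ h).op f.op) (d j)
    rw [Fintype.sum_sum_type]
    simp only [Sum.elim_inl, Sum.elim_inr]
    have he' : ∑ x, e x * (R.obj.map ((f ≫ l ≫ h) ≫ k).op).hom (c x j) =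
        (R.obj.map f.op).hom (d' j) := by
      rw [← he j]
      simp only [ψ, Category.assoc]
    have e3 : ∀ i, (R.obj.map f.op).hom (b i) * (R.obj.map ((f ≫ l ≫ h) ≫ k).op).hom (a i j) =
        (R.obj.map f.op).hom (b i * (R.obj.map ψ.op).hom (a i j)) := fun i => by
      rw [hf1, map_mul]
    simp only [Category.assoc] at he' e3 hf2 ⊢
    rw [he', hf2, map_sub, map_sum]
    simp only [e3]
    exact add_sub_cancel _ _

theorem isFiniteType_extension (S : ShortComplex (SheafOfModules.{u} R)) (hS : S.ShortExact)
    [S.X₁.IsFiniteType] [S.X₃.IsFiniteType] : S.X₂.IsFiniteType := by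
  haveI := hS.mono_f
  haveI := hS.epi_g
  refine isFiniteType_of_hasGen _ fun X => ?_
  exact Locally.bind (Locally.and (exists_sieve_hasGen S.X₁ X) (exists_sieve_hasGen S.X₃ X))
    fun W g hg => hasGen_extension S hS.exact hg.1 hg.2

theorem isFiniteType_kernel (θ : M ⟶ N) [Epi θ] [M.IsFiniteType] [N.IsFinitePresentation] :
    (kernel θ).IsFiniteType := by
  refine isFiniteType_of_hasGen _ fun X => ?_
  exact Locally.bind (Locally.and (exists_sieve_hasGen M X) (exists_sieve_hasRels N X))
    fun W g hg => hasGen_kernel θ hg.1 hg.2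

theorem isFinitePresentation_cokernel (φ : M ⟶ N) [M.IsFiniteType] [N.IsFinitePresentation] :
    (cokernel φ).IsFinitePresentation := by
  refine isFinitePresentation_of_hasRels _ fun X => ?_
  exact Locally.bind (Locally.and (exists_sieve_hasGen M X) (exists_sieve_hasRels N X))
    fun W g hg => hasRels_cokernel φ hg.1 hg.2

end Groth.Agent.FPLocal
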