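import Groth.Agent.FPLocal.GlobalFree
import Groth.Agent.FPLocal.Coprod
import Groth.Agent.FPLocal.OpensPt
import Mathlib.LinearAlgebra.InvariantBasisNumber
import Mathlib.Topology.Sheaves.Stalks

/-!
# The rank of a free sheaf of modules
-/

set_option linter.style.haveILetI false
set_option linter.unusedSectionVars false
set_option backward.isDefEq.respectTransparency false
set_option backward.isDefEq.respectTransparency.types false

universe u

open CategoryTheory Limits Opposite TopologicalSpace

noncomputable section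

namespace Groth.Agent.FPLocal

variable {X : TopCat.{u}} {O : TopCat.Sheaf CommRingCat.{u} X}

/-- A free module stays free on a smaller open. -/
def restrFreeIso {F : ModSite.Mod O} {W U : Opens X} (g : W ⟶ U) {I : Type u}
    (e : SheafOfModules.free I ≅ (ModSite.restr O U).obj F) :
    SheafOfModules.free I ≅ (ModSite.restr O W).obj F :=
  SheafOfModules.mapFreeIso (SheafOfModules.overMap (ModSite.ringSh O) g) I
      (SheafOfModules.overMapUnitIso g).symm ≪≫
    (SheafOfModules.overMap (ModSite.ringSh O) g).mapIso e ≪≫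
      (SheafOfModules.overFunctorMap (ModSite.ringSh O) g).app F

theorem nontrivial_sections {x : X} (hO : Nontrivial (O.presheaf.stalk x)) {W : Opens X}
    (hW : x ∈ W) : Nontrivial (O.obj.obj (op W)) :=
  RingHom.domain_nontrivial (O.presheaf.germ W x hW).hom

theorem finite_of_iso {x : X} (hO : Nontrivial (O.presheaf.stalk x)) {W : Opens X} (hW : x ∈ W)
    {I I' : Type u} [Fintype I]
    (e : SheafOfModules.free (R := (ModSite.ringSh O).over W) I ≅ SheafOfModules.free I') :
    Finite I' := by
  classical
  let T : Over W := Over.mk (𝟙 W)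
  let F : I' → SheafOfModules.{u} ((ModSite.ringSh O).over W) := fun _ => SheafOfModules.unit _
  have hloc := Locally.forall fun i : I =>
    locally_exists_finsum F (V := T) (basisVal e.hom i T)
  obtain ⟨S, hS, hS'⟩ := hloc
  obtain ⟨Z, g, hg, hxZ⟩ :=
    (Opens.mem_grothendieckTopology X).1 ((GrothendieckTopology.mem_over_iff _ _).1 hS) x hW
  rw [Sieve.overEquiv_iff] at hg
  let U : Over W := Over.mk (g ≫ T.hom)
  choose A t ht using hS' (Over.homMk g : U ⟶ T) hg
  let B : Finset I' := Finset.univ.biUnion A
  suffices hB : ∀ j, j ∈ B from @Finite.of_fintype I' ⟨B, hB⟩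
  intro j
  by_contra hj
  have : Nontrivial (O.obj.obj (op Z)) := nontrivial_sections hO hxZ
  let p : SheafOfModules.free (R := (ModSite.ringSh O).over W) I' ⟶ SheafOfModules.unit _ :=
    coprodProj F j
  have hp : ∀ i, basisVal (e.hom ≫ p) i U = 0 := fun i => by
    show (p.val.app (op U)).hom (basisVal e.hom i U) = 0
    rw [← mres_basisVal e.hom i (Over.homMk g : U ⟶ T)]
    refine (congrArg (p.val.app (op U)).hom (ht i)).trans ?_
    refine (coprodProj_sum F (A i) (t i) j).trans ?_
    rw [if_neg fun h => hj (Finset.mem_biUnion.2 ⟨i, Finset.mem_univ i, h⟩)]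
  let one : (SheafOfModules.free (R := (ModSite.ringSh O).over W) I').val.obj (op U) :=
    ((Sigma.ι F j).val.app (op U)).hom (1 : O.obj.obj (op Z))
  obtain ⟨a, ha⟩ := exists_eq_sum_basis U ((e.inv.val.app (op U)).hom one)
  have h1 : (p.val.app (op U)).hom one = (1 : O.obj.obj (op Z)) := coprodProj_ι_self F j _
  have h2 : (p.val.app (op U)).hom one = 0 := by
    have he : one = (e.hom.val.app (op U)).hom ((e.inv.val.app (op U)).hom one) :=
      (congrArg (fun f : SheafOfModules.free (R := (ModSite.ringSh O).over W) I' ⟶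
        SheafOfModules.free I' => (f.val.app (op U)).hom one) e.inv_hom_id).symm
    rw [he, ha]
    refine (app_sum_basis (e.hom ≫ p) U a).trans (Finset.sum_eq_zero fun i _ => ?_)
    rw [hp]
    exact smul_zero _
  exact one_ne_zero (α := O.obj.obj (op Z)) (h1.symm.trans h2)

theorem card_eq_of_iso {x : X} (hO : Nontrivial (O.presheaf.stalk x)) {W : Opens X} (hW : x ∈ W)
    {I I' : Type u} [Finite I]
    (e : SheafOfModules.free (R := (ModSite.ringSh O).over W) I ≅ SheafOfModules.free I') :
    Finite I' ∧ ENat.card I' = ENat.card I := by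
  haveI := Fintype.ofFinite I
  haveI := finite_of_iso hO hW e
  haveI := Fintype.ofFinite I'
  refine ⟨inferInstance, ?_⟩
  let U : Over W := Over.mk (𝟙 W)
  let A : Type u := ((ModSite.ringSh O).over W).obj.obj (op U)
  have : Nontrivial (O.obj.obj (op W)) := nontrivial_sections hO hW
  let φ : (SheafOfModules.free (R := (ModSite.ringSh O).over W) I).val.obj (op U) ≃ₗ[A]
      (SheafOfModules.free (R := (ModSite.ringSh O).over W) I').val.obj (op U) :=
    ((SheafOfModules.evaluation _ (op U)).mapIso e).toLinearEquiv
  let ψ := (coordEquiv (R := (ModSite.ringSh O).over W) (I := I) U).trans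
    (φ.trans (coordEquiv (R := (ModSite.ringSh O).over W) (I := I') U).symm)
  let ψ₀ : (I → O.obj.obj (op W)) → (I' → O.obj.obj (op W)) := fun v => ψ v
  let ψ₁ : (I → O.obj.obj (op W)) →ₗ[O.obj.obj (op W)] (I' → O.obj.obj (op W)) :=
    { toFun := ψ₀
      map_add' := fun a b => map_add ψ a b
      map_smul' := fun r a => by
        exact ψ.toLinearMap.map_smul' r a }
  let ψ' := LinearEquiv.ofBijective ψ₁ ψ.bijective
  have := card_eq_of_linearEquiv (O.obj.obj (op W)) ψ'
  rw [ENat.card_eq_coe_fintype_card, ENat.card_eq_coe_fintype_card, this]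

theorem card_eq {F : ModSite.Mod O} {x : X} (hO : Nontrivial (O.presheaf.stalk x))
    {U U' : Opens X} (hU : x ∈ U) (hU' : x ∈ U') {I I' : Type u}
    (e : SheafOfModules.free I ≅ (ModSite.restr O U).obj F)
    (e' : SheafOfModules.free I' ≅ (ModSite.restr O U').obj F) :
    ENat.card I = ENat.card I' := by
  let W := U ⊓ U'
  let ε := restrFreeIso (homOfLE inf_le_left : W ⟶ U) e ≪≫
    (restrFreeIso (homOfLE inf_le_right : W ⟶ U') e').symm
  by_cases h : Finite I
  · exact (card_eq_of_iso hO (show x ∈ W from ⟨hU, hU'⟩) ε).2.symm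
  · by_cases h' : Finite I'
    · exact absurd (card_eq_of_iso hO (show x ∈ W from ⟨hU, hU'⟩) ε.symm).1 h
    · rw [not_finite_iff_infinite] at h h'
      rw [ENat.card_eq_top_of_infinite, ENat.card_eq_top_of_infinite]

end Groth.Agent.FPLocal
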