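import Groth.Agent.FPLocal.LocFree

/-!
# Bases from bases of stalks
-/

set_option linter.style.haveILetI false
set_option linter.unusedSectionVars false
set_option backward.isDefEq.respectTransparency false
set_option backward.isDefEq.respectTransparency.types false

universe u

open CategoryTheory Limits Opposite TopologicalSpace

noncomputable section

namespace Groth.Agent.FPLocal

variable {X : TopCat.{u}} {O : TopCat.Sheaf CommRingCat.{u} X} {F : ModSite.Mod O} {x : X}

/-- The germ at `x` of a function. -/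
def fgerm (O : TopCat.Sheaf CommRingCat.{u} X) {U : Opens X} (hx : x ∈ U) :
    O.obj.obj (op U) →+* ModSite.stalkRing (pt x) O :=
  ModTensor.germRingHom (pt x) U (fib hx)

theorem fgerm_ores {U W : Opens X} (g : W ⟶ U) (hW : x ∈ W) (r : O.obj.obj (op U)) :
    fgerm O hW (ores O g r) = fgerm O (g.le hW) r :=
  ModTensor.germRingHom_ores (pt x) g (fib hW) r

theorem exists_fgerm (z : ModSite.stalkRing (pt x) O) :
    ∃ (U : Opens X) (hx : x ∈ U) (r : O.obj.obj (op U)), fgerm O hx r = z := by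
  obtain ⟨U, u, s, h⟩ := (pt x).toPresheafFiber_jointly_surjective (P := O.obj) z
  exact ⟨U, fib_mem u, s, h⟩

theorem near_of_fgerm_eq {U : Opens X} (hx : x ∈ U) (s t : O.obj.obj (op U))
    (h : fgerm O hx s = fgerm O hx t) : Near x U fun _ g => ores O g s = ores O g t := by
  obtain ⟨W, g, w, _, hw⟩ :=
    ((pt x).toPresheafFiber_eq_iff' (P := O.obj) U (fib hx) s t).1 h
  exact ⟨W, g, fib_mem w, hw⟩

theorem near_exists_germ {U : Opens X} (hx : x ∈ U) (z : ModSite.stalkMod (pt x) F) :
    Near x U fun W _ => ∀ hW : x ∈ W, ∃ t : ModSite.sect F W, germ F hW t = z := by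
  obtain ⟨U', hx', t, rfl⟩ := exists_germ F x z
  exact ⟨U ⊓ U', homOfLE inf_le_left, ⟨hx, hx'⟩, fun hW =>
    ⟨mres F (homOfLE inf_le_right : U ⊓ U' ⟶ U').op t, germ_mres F _ hW t⟩⟩

theorem near_exists_fgerm {U : Opens X} (hx : x ∈ U) (z : ModSite.stalkRing (pt x) O) :
    Near x U fun W _ => ∀ hW : x ∈ W, ∃ r : O.obj.obj (op W), fgerm O hW r = z := by
  obtain ⟨U', hx', t, rfl⟩ := exists_fgerm z
  exact ⟨U ⊓ U', homOfLE inf_le_left, ⟨hx, hx'⟩, fun hW =>
    ⟨ores O (homOfLE inf_le_right : U ⊓ U' ⟶ U') t, fgerm_ores _ hW t⟩⟩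

theorem germ_comb {U : Opens X} (hx : x ∈ U) {I : Type u} [Fintype I]
    (a : I → O.obj.obj (op U)) (s : I → ModSite.sect F U) :
    germ F hx (comb O F a s) = ∑ i, fgerm O hx (a i) • germ F hx (s i) :=
  ModTensor.germHom_sum_smul (pt x) F U (fib hx) a s

theorem Near.bind {U : Opens X} {P Q : ∀ ⦃W : Opens X⦄, (W ⟶ U) → Prop} (h : Near x U P)
    (h' : ∀ ⦃W : Opens X⦄ (g : W ⟶ U), x ∈ W → P g → Near x W fun _ k => Q (k ≫ g)) :
    Near x U Q := by
  obtain ⟨W, g, hW, hg⟩ := h
  obtain ⟨Z, k, hZ, hk⟩ := h' g hW hg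
  exact ⟨Z, k ≫ g, hZ, hk⟩

/-- Functions with vanishing germ vanish near the point. -/
theorem near_forall_eq_zero {U : Opens X} (hx : x ∈ U) {I : Type*} [Finite I]
    (a : I → O.obj.obj (op U)) (h : ∀ i, fgerm O hx (a i) = 0) :
    Near x U fun _ g => ∀ i, ores O g (a i) = 0 :=
  Near.forall hx (fun i V W k g (hg : ores O g (a i) = 0) => by
    rw [ores_comp, hg, map_zero]) fun i => by
      obtain ⟨W, g, hW, e⟩ := near_of_fgerm_eq hx (a i) 0 ((h i).trans (map_zero _).symm)
      exact ⟨W, g, hW, e.trans (map_zero _)⟩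

set_option maxHeartbeats 1000000 in
/-- A finitely presented module with free stalk is free near the point. -/
theorem near_exists_basis {U : Opens X} (hxU : x ∈ U) (hF : HasRels F U) {L : Type u} [Fintype L]
    (e : ModSite.stalkMod (pt x) F ≃ₗ[ModSite.stalkRing (pt x) O]
      (L → ModSite.stalkRing (pt x) O)) :
    Near x U fun W _ => ∃ f : L → ModSite.sect F W, IsBasisOver F f := by
  classical
  obtain ⟨I, K, _, _, s, c, hs, hc0, hc⟩ := hF
  let b : L → ModSite.stalkMod (pt x) F := fun l => e.symm (Pi.single l 1)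
  have hb : ∀ z, ∑ l, e z l • b l = z := fun z => e.injective (by
    rw [map_sum]
    funext l
    simp [b, Finset.sum_apply, Pi.single_apply])
  have hb0 : ∀ a : L → ModSite.stalkRing (pt x) O, ∑ l, a l • b l = 0 → a = 0 := fun a ha => by
    have := congrArg e ha
    rw [map_sum, map_zero] at this
    funext l
    simpa [b, Finset.sum_apply, Pi.single_apply] using congrFun this l
  -- lift the basis and the coefficients of the generators
  refine ((Near.forall (ι := L) hxU (fun l V W k g hg hV => by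
    obtain ⟨t, ht⟩ := hg (k.le hV)
    exact ⟨mres F k.op t, (germ_mres F k hV t).trans ht⟩)
      fun l => near_exists_germ hxU (b l))).bind fun W₁ g₁ hx₁ h₁ => ?_
  choose f hf using fun l => h₁ l hx₁
  refine (Near.forall (ι := I × L) hx₁ (fun p V W k g hg hV => by
    obtain ⟨t, ht⟩ := hg (k.le hV)
    exact ⟨ores O k t, (fgerm_ores k hV t).trans ht⟩)
      fun p => near_exists_fgerm hx₁ (e (germ F hxU (s p.1)) p.2)).bind fun W₂ g₂ hx₂ h₂ => ?_
  choose a ha using fun p => h₂ p hx₂
  let s₂ := fun i => mres F (g₂ ≫ g₁).op (s i)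
  let f₂ := fun l => mres F g₂.op (f l)
  have hsf : ∀ i, germ F hx₂ (s₂ i) = germ F hx₂ (comb O F (fun l => a (i, l)) f₂) := fun i => by
    rw [germ_comb]
    refine (germ_mres F (g₂ ≫ g₁) hx₂ (s i)).trans (Eq.trans ?_ (Finset.sum_congr rfl fun l _ =>
      congrArg₂ (· • ·) (ha (i, l)).symm ((germ_mres F g₂ hx₂ (f l)).trans (hf l)).symm))
    exact (hb _).symm
  refine (Near.forall (ι := I) hx₂ (fun i V W k g
      (hg : mres F g.op (s₂ i) = mres F g.op (comb O F (fun l => a (i, l)) f₂)) => by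
    rw [mres_comp', hg, ← mres_comp']) fun i => near_of_germ_eq F hx₂ _ _ (hsf i)).bind
      fun W₃ g₃ hx₃ h₃ => ?_
  let φ₃ : W₃ ⟶ U := g₃ ≫ g₂ ≫ g₁
  obtain ⟨W₄, g₄, hx₄, h₄⟩ := Locally.near (Locally.forall fun l =>
    (hs.restrict φ₃).locally_comb (mres F g₃.op (f₂ l))) hx₃
  choose β hβ using h₄
  let φ : W₄ ⟶ U := g₄ ≫ φ₃
  let s' := fun i => mres F φ.op (s i)
  let f' := fun l => mres F g₄.op (mres F g₃.op (f₂ l))
  let a' := fun (i : I) (l : L) => ores O (g₄ ≫ g₃) (a (i, l))
  let c' := fun (k : K) (i : I) => ores O φ (c k i)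
  have hs' : Gen F s' := hs.restrict φ
  have hf' : ∀ l, comb O F (β l) s' = f' l := fun l => by
    refine Eq.trans ?_ (hβ l)
    exact congrArg (comb O F _) (funext fun i => mres_comp' g₄ φ₃ (s i))
  have hsa : ∀ i, s' i = comb O F (a' i) f' := fun i => by
    have e1 : s' i = mres F g₄.op (mres F g₃.op (s₂ i)) := by
      show mres F (g₄ ≫ g₃ ≫ g₂ ≫ g₁).op (s i) = _
      rw [mres_comp', mres_comp']
    rw [e1, h₃ i, mres_comb, mres_comb]
    exact congrArg (fun a => comb O F a f') (funext fun l => (ores_comp O g₄ g₃ _).symm)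
  have hgf : ∀ l, germ F hx₄ (f' l) = b l := fun l => by
    show germ F hx₄ (mres F g₄.op (mres F g₃.op (mres F g₂.op (f l)))) = _
    rw [germ_mres, germ_mres, germ_mres, hf]
  have hzero : ∀ v : L → O.obj.obj (op W₄), comb O F v f' = 0 →
      ∀ l, fgerm O hx₄ (v l) = 0 := fun v hv l => by
    refine congrFun (hb0 (fun l => fgerm O hx₄ (v l)) ?_) l
    simp only [← hgf]
    rw [← germ_comb, hv, map_zero]
  let p : L → L → O.obj.obj (op W₄) := fun l m =>
    (if m = l then 1 else 0) - ∑ i, β l i * a' i m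
  let q : K → L → O.obj.obj (op W₄) := fun k m => ∑ i, c' k i * a' i m
  have hp : ∀ l, comb O F (p l) f' = 0 := fun l => by
    rw [show p l = (fun m => if m = l then 1 else 0) - fun m => ∑ i, β l i * a' i m from rfl,
      comb_sub, comb_single, ← comb_comb, ← funext hsa, hf', sub_self]
  have hq : ∀ k, comb O F (q k) f' = 0 := fun k => by
    rw [show q k = fun m => ∑ i, c' k i * a' i m from rfl, ← comb_comb, ← funext hsa]
    refine (mres_comb φ (c k) s).symm.trans ?_
    rw [← comb_eq, hc0, map_zero]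
  obtain ⟨W₅, g₅, hx₅, h₅⟩ := near_forall_eq_zero (x := x) (O := O) hx₄
    (fun z : (L × L) ⊕ (K × L) => Sum.elim (fun z => p z.1 z.2) (fun z => q z.1 z.2) z)
    (by rintro (⟨l, m⟩ | ⟨k, m⟩)
        · exact hzero _ (hp l) m
        · exact hzero _ (hq k) m)
  refine ⟨W₅, g₅ ≫ g₄, hx₅, fun l => mres F g₅.op (f' l), ?_, fun Z h d hd => ?_⟩
  · intro Z h m
    refine (hs'.locally (h ≫ g₅) m).mono fun Y l hl => ?_
    obtain ⟨v₀, hv⟩ := hl
    let v : I → O.obj.obj (op Y) := v₀
    replace hv : comb O F v (fun i => mres F (l ≫ h ≫ g₅).op (s' i)) = mres F l.op m := hv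
    refine ⟨fun j => ∑ i, v i * ores O ((l ≫ h) ≫ g₅) (a' i j), ?_⟩
    rw [comb_eq, ← comb_comb (M := F) v, ← hv]
    refine congrArg (comb O F v) (funext fun i => ?_)
    rw [hsa, show l ≫ h ≫ g₅ = (l ≫ h) ≫ g₅ from (Category.assoc _ _ _).symm, mres_comb]
    exact congrArg (comb O F _) (funext fun j => (mres_comp' (l ≫ h) g₅ (f' j)).symm)
  · let ψ : Z ⟶ W₄ := h ≫ g₅
    let d' : I → O.obj.obj (op Z) := fun i => ∑ l, d l * ores O ψ (β l i)
    have e1 : comb O F d' (fun i => mres F ψ.op (s' i)) = 0 := by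
      rw [show d' = fun i => ∑ l, d l * ores O ψ (β l i) from rfl, ← comb_comb]
      refine Eq.trans (congrArg (comb O F d) (funext fun l => ?_)) hd
      rw [← mres_comb, hf', mres_comp' h g₅]
    have hd0 : Locally (Opens.grothendieckTopology X) Z fun Y l => ∀ m, ores O l (d m) = 0 := by
      refine Locally.mono (hc.restrict φ ψ d' e1) fun Y l hl => ?_
      obtain ⟨v₀, hv⟩ := hl
      let v : K → O.obj.obj (op Y) := v₀
      intro m
      have hp0 : ∀ l' m', ores O (l ≫ ψ) (p l' m') = 0 := fun l' m' => by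
        rw [show l ≫ ψ = (l ≫ h) ≫ g₅ from (Category.assoc _ _ _).symm, ores_comp,
          show ores O g₅ (p l' m') = 0 from h₅ (.inl (l', m')), map_zero]
      have hq0 : ∀ k' m', ores O (l ≫ ψ) (q k' m') = 0 := fun k' m' => by
        rw [show l ≫ ψ = (l ≫ h) ≫ g₅ from (Category.assoc _ _ _).symm, ores_comp,
          show ores O g₅ (q k' m') = 0 from h₅ (.inr (k', m')), map_zero]
      have hβa : ∀ l', ∑ i, ores O (l ≫ ψ) (β l' i) * ores O (l ≫ ψ) (a' i m) =
          if m = l' then 1 else 0 := fun l' => by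
        have := hp0 l' m
        simp only [p, map_sub, map_sum, map_mul, sub_eq_zero] at this
        rw [← this]
        split <;> simp
      have hca : ∀ k', ∑ i, ores O (l ≫ ψ) (c' k' i) * ores O (l ≫ ψ) (a' i m) = 0 := fun k' => by
        have := hq0 k' m
        simpa only [q, map_sum, map_mul] using this
      have hv' : ∀ i, ores O l (d' i) = ∑ k, v k * ores O (l ≫ ψ) (c' k i) := fun i => (hv i).symm
      calc ores O l (d m) = ∑ l', ores O l (d l') * (if m = l' then 1 else 0) := by simp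
        _ = ∑ i, ores O l (d' i) * ores O (l ≫ ψ) (a' i m) := by
            simp only [← hβa, Finset.mul_sum, d', map_sum, map_mul, Finset.sum_mul, ← ores_comp,
              mul_assoc]
            exact Finset.sum_comm
        _ = ∑ k, v k * ∑ i, ores O (l ≫ ψ) (c' k i) * ores O (l ≫ ψ) (a' i m) := by
            simp only [hv', Finset.sum_mul, Finset.mul_sum, mul_assoc]
            exact Finset.sum_comm
        _ = 0 := by simp [hca]
    funext m
    have := eq_of_locally (M := SheafOfModules.unit (ModSite.ringSh O)) (V := Z)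
      (m := (show (ModSite.ringSh O).obj.obj (op Z) from d m)) (n := 0)
      (hd0.mono fun Y l hl => (hl m).trans (map_zero (ores O l)).symm)
    exact this

end Groth.Agent.FPLocal
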