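import Groth.Agent.FPLocal.LocFree
import Groth.Agent.FPLocal.OpensPt
import Mathlib.RingTheory.LocalRing.ResidueField.Basic
import Mathlib.Topology.Sheaves.Stalks

/-!
# Direct summands of free modules with local stalks
-/

set_option linter.style.haveILetI false
set_option linter.unusedSectionVars false
set_option backward.isDefEq.respectTransparency false
set_option backward.isDefEq.respectTransparency.types false

universe u

open CategoryTheory Limits Opposite TopologicalSpace

noncomputable section

namespace Groth.Agent.FPLocal

/-- Over a local ring, among vectors spanning `A^n` some `n` of them form a basis. -/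
theorem exists_choice_isUnit_det {A : Type*} [CommRing A] [IsLocalRing A] {n ι : Type*}
    [Fintype n] [DecidableEq n] (v : ι → n → A)
    (hv : ∀ j, Pi.single j 1 ∈ Submodule.span A (Set.range v)) :
    ∃ σ : n → ι, IsUnit (Matrix.of fun l => v (σ l)).det := by
  classical
  let q : A →+* IsLocalRing.ResidueField A := IsLocalRing.residue A
  let w : ι → n → IsLocalRing.ResidueField A := fun i j => q (v i j)
  have hqv : ∀ z, z ∈ Submodule.span A (Set.range v) →
      (fun j => q (z j)) ∈ Submodule.span (IsLocalRing.ResidueField A) (Set.range w) := by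
    intro z hz
    induction hz using Submodule.span_induction with
    | mem x hx =>
      obtain ⟨i, rfl⟩ := hx
      exact Submodule.subset_span ⟨i, rfl⟩
    | zero =>
      rw [show (fun j => q ((0 : n → A) j)) = 0 from funext fun j => map_zero q]
      exact zero_mem _
    | add x y _ _ hx hy =>
      rw [show (fun j => q ((x + y) j)) = (fun j => q (x j)) + fun j => q (y j) from
        funext fun j => map_add q _ _]
      exact add_mem hx hy
    | smul a x _ hx =>
      rw [show (fun j => q ((a • x) j)) = q a • fun j => q (x j) from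
        funext fun j => map_mul q _ _]
      exact Submodule.smul_mem _ _ hx
  have htop : Submodule.span (IsLocalRing.ResidueField A) (Set.range w) = ⊤ := by
    rw [eq_top_iff, ← (Pi.basisFun (IsLocalRing.ResidueField A) n).span_eq, Submodule.span_le]
    rintro _ ⟨j, rfl⟩
    have := hqv _ (hv j)
    have e : (fun k => q ((Pi.single j 1 : n → A) k)) =
        (Pi.single j 1 : n → IsLocalRing.ResidueField A) := funext fun k => by
      simp [Pi.single_apply, apply_ite q]
    rw [e] at this
    simpa using this
  obtain ⟨b, hb, hsb, hli⟩ := exists_linearIndependent (IsLocalRing.ResidueField A) (Set.range w)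
  rw [htop] at hsb
  let B : Module.Basis b (IsLocalRing.ResidueField A) (n → IsLocalRing.ResidueField A) :=
    Module.Basis.mk hli (by simp [hsb])
  haveI : Fintype b := FiniteDimensional.fintypeBasisIndex B
  let eb : n ≃ b := Fintype.equivOfCardEq (by
    rw [← Module.finrank_eq_card_basis B, Module.finrank_fintype_fun_eq_card])
  choose σ hσ using fun l => hb (eb l).2
  refine ⟨σ, ?_⟩
  have h1 : IsUnit (Matrix.of fun l => w (σ l)) := by
    rw [← Matrix.linearIndependent_rows_iff_isUnit]
    have : (Matrix.of fun l => w (σ l)).row = (fun l => ((eb l : n → IsLocalRing.ResidueField A))) :=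
      funext fun l => hσ l
    rw [this]
    exact hli.comp _ eb.injective
  have h2 : q (Matrix.of fun l => v (σ l)).det = (Matrix.of fun l => w (σ l)).det :=
    RingHom.map_det q _
  exact isUnit_of_map_unit q _ (h2 ▸ (Matrix.isUnit_iff_isUnit_det _).1 h1)

variable {X : TopCat.{u}} {O : TopCat.Sheaf CommRingCat.{u} X}

/-- A function with invertible germ is invertible near the point. -/
theorem near_isUnit_of_germ {x : X} {U : Opens X} (hx : x ∈ U) (r : O.obj.obj (op U))
    (h : IsUnit ((O.presheaf.germ U x hx).hom r)) : Near x U fun _ g => IsUnit (ores O g r) := by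
  obtain ⟨z, hz⟩ := isUnit_iff_exists_inv.1 h
  obtain ⟨V, hxV, s, rfl⟩ := O.presheaf.exists_germ_eq z
  let W := U ⊓ V
  let i : W ⟶ U := homOfLE inf_le_left
  let i' : W ⟶ V := homOfLE inf_le_right
  have hW : x ∈ W := ⟨hx, hxV⟩
  have e : (O.presheaf.germ W x hW).hom (ores O i r * ores O i' s) =
      (O.presheaf.germ W x hW).hom 1 := by
    rw [map_mul, map_one]
    refine Eq.trans ?_ hz
    exact congrArg₂ (· * ·) (O.presheaf.germ_res_apply i x hW r) (O.presheaf.germ_res_apply i' x hW s)
  obtain ⟨Z, hxZ, k, k', hk⟩ := O.presheaf.germ_eq x hW hW _ _ e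
  refine ⟨Z, k ≫ i, hxZ, isUnit_iff_exists_inv.2 ⟨ores O k' (ores O i' s), ?_⟩⟩
  rw [ores_comp, ← map_one (ores O k'), show k' = k from Subsingleton.elim _ _, ← map_mul]
  exact hk.trans (by rw [show k' = k from Subsingleton.elim _ _])

set_option maxHeartbeats 800000 in
/-- A direct summand of a module free near `x` is free near `x` if the stalk of `O` is local. -/
theorem near_exists_basis_of_summand {F H : ModSite.Mod O} (i : F ⟶ H) (p : H ⟶ F)
    (hip : i ≫ p = 𝟙 F) {x : X} [IsLocalRing (O.presheaf.stalk x)] {U : Opens X} (hxU : x ∈ U)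
    {n : Type u} [Fintype n] [DecidableEq n] {h : n → ModSite.sect H U} (hh : IsBasisOver H h) :
    ∃ (W : Opens X) (S : Type u) (_ : Fintype S) (f : S → ModSite.sect F W),
      x ∈ W ∧ IsBasisOver F f := by
  classical
  let φ : H ⟶ H := p ≫ i
  obtain ⟨W₀, g₀, hx₀, hE⟩ := Locally.near
    (Locally.forall fun j => hh.1.locally_comb ((φ.val.app (op U)).hom (h j))) hxU
  choose E hE using hE
  let v : n ⊕ n → n → O.obj.obj (op W₀) :=
    Sum.elim E fun j k => (if k = j then 1 else 0) - E j k
  let G := (O.presheaf.germ W₀ x hx₀).hom
  obtain ⟨σ, hσ⟩ := exists_choice_isUnit_det (A := O.presheaf.stalk x)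
    (fun i k => G (v i k)) (fun j => by
      rw [show (Pi.single j 1 : n → O.presheaf.stalk x) =
        (fun k => G (v (.inl j) k)) + fun k => G (v (.inr j) k) from funext fun k => by
          simp [v, Pi.single_apply, apply_ite G]]
      exact add_mem (Submodule.subset_span ⟨_, rfl⟩) (Submodule.subset_span ⟨_, rfl⟩))
  obtain ⟨W, g, hxW, hdet⟩ := near_isUnit_of_germ hx₀ (Matrix.of fun l => v (σ l)).det
    (by rw [RingHom.map_det]; exact hσ)
  let M : Matrix n n (O.obj.obj (op W)) := (Matrix.of fun l => v (σ l)).map (ores O g)
  have hM : IsUnit M.det := by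
    rw [show M.det = ores O g (Matrix.of fun l => v (σ l)).det from (RingHom.map_det _ _).symm]
    exact hdet
  let h' := fun j => mres H (g ≫ g₀).op (h j)
  have hh' : IsBasisOver H h' := hh.restrict (g ≫ g₀)
  let E' := fun j k => ores O g (E j k)
  have hφ : ∀ j, (φ.val.app (op W)).hom (h' j) = comb O H (E' j) h' := fun j => by
    refine (app_mres φ (g ≫ g₀) (h j)).trans ?_
    rw [mres_comp', ← hE, mres_comb]
    exact congrArg (comb O H _) (funext fun k => (mres_comp' g g₀ (h k)).symm)
  let row : n → ModSite.sect H W := fun l => Sum.elim (fun j => (φ.val.app (op W)).hom (h' j))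
    (fun j => h' j - (φ.val.app (op W)).hom (h' j)) (σ l)
  have hrow : ∀ l, comb O H (M l) h' = row l := fun l => by
    show comb O H (fun k => ores O g (v (σ l) k)) h' = _
    simp only [row]
    rcases σ l with j | j
    · exact (hφ j).symm
    · simp only [v, Sum.elim_inr]
      rw [hφ j, ← comb_single h' j, ← comb_sub]
      refine congrArg (fun a => comb O H a h') (funext fun k => ?_)
      simp [E', apply_ite (ores O g)]
  have hpi : ∀ {V : Opens X} (m : ModSite.sect F V),
      (p.val.app (op V)).hom ((i.val.app (op V)).hom m) = m := fun m =>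
    congrArg (fun f : F ⟶ F => (f.val.app _).hom m) hip
  let f₀ : n → ModSite.sect F W := fun l => (p.val.app (op W)).hom (row l)
  have hrow' : ∀ l, (σ l).isLeft → (i.val.app (op W)).hom (f₀ l) = row l := fun l hl => by
    simp only [f₀, row]
    rcases hσl : σ l with j | j
    · simp only [Sum.elim_inl]
      exact congrArg (i.val.app (op W)).hom (hpi ((p.val.app (op W)).hom (h' j)))
    · simp [hσl] at hl
  have hrow'' : ∀ l, ¬ (σ l).isLeft → f₀ l = 0 := fun l hl => by
    simp only [f₀, row]
    rcases hσl : σ l with j | j
    · simp [hσl] at hl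
    · simp only [Sum.elim_inr, map_sub, sub_eq_zero]
      exact (hpi ((p.val.app (op W)).hom (h' j))).symm
  refine ⟨W, {l // (σ l).isLeft}, inferInstance, fun l => f₀ l.1, hxW, fun Z k m => ?_,
    fun Z k d hd => ?_⟩
  · refine ((hh'.restrict k).1.locally_comb ((i.val.app (op Z)).hom m)).mono fun Y l hl => ?_
    obtain ⟨d, hd⟩ := hl
    let N : Matrix n n (O.obj.obj (op Y)) := M.map (ores O (l ≫ k))
    have hN : IsUnit N.det := by
      rw [show N.det = ores O (l ≫ k) M.det from (RingHom.map_det _ _).symm]
      exact hM.map _
    let e := Matrix.vecMul d N⁻¹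
    refine ⟨fun j => e j.1, ?_⟩
    have hd' : comb O H d (fun j => mres H (l ≫ k).op (h' j)) =
        comb O H e (fun j => mres H (l ≫ k).op (row j)) := by
      rw [show (fun j => mres H (l ≫ k).op (row j)) = fun j => comb O H (N j)
        (fun c => mres H (l ≫ k).op (h' c)) from funext fun j => by rw [← hrow, mres_comb]; rfl,
        comb_comb]
      refine congrArg (fun a => comb O H a _) ?_
      show d = Matrix.vecMul e N
      rw [Matrix.vecMul_vecMul, Matrix.nonsing_inv_mul _ hN, Matrix.vecMul_one]
    have e1 : mres F l.op m = comb O F e (fun j => mres F (l ≫ k).op (f₀ j)) := by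
      have := congrArg (p.val.app (op Y)).hom
        ((congrArg (comb O H d) (funext fun j => mres_comp' l k (h' j))).trans hd)
      rw [hd', app_comb, app_mres, hpi] at this
      refine this.symm.trans (congrArg (comb O F e) (funext fun j => ?_))
      exact app_mres p (l ≫ k) (row j)
    rw [comb_eq, e1]
    have hz : ∀ j, ¬ (σ j).isLeft →
        (show (ModSite.ringSh O).obj.obj (op Y) from e j) • mres F (l ≫ k).op (f₀ j) = 0 :=
      fun j hj => by rw [hrow'' j hj, map_zero, smul_zero]
    exact (Finset.sum_subtype (Finset.univ.filter fun j => (σ j).isLeft) (fun j => by simp)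
      (fun j => (show (ModSite.ringSh O).obj.obj (op Y) from e j) • mres F (l ≫ k).op (f₀ j))).symm.trans
      (Finset.sum_filter_of_ne fun j _ hj => by
        by_contra hc
        exact hj (hz j hc))
  · let d' : n → O.obj.obj (op Z) := fun l => if hl : (σ l).isLeft then d ⟨l, hl⟩ else 0
    let N : Matrix n n (O.obj.obj (op Z)) := M.map (ores O k)
    have hN : IsUnit N.det := by
      rw [show N.det = ores O k M.det from (RingHom.map_det _ _).symm]
      exact hM.map _
    have e := congrArg (i.val.app (op Z)).hom hd
    rw [map_zero, app_comb] at e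
    have e1 : comb O H d' (fun j => mres H k.op (row j)) = 0 := by
      refine Eq.trans ?_ e
      refine Eq.trans (Finset.sum_filter_of_ne (p := fun j => (σ j).isLeft) fun j _ hj => by
        by_contra hc
        refine hj ?_
        simp only [d', dif_neg hc]
        exact zero_smul _ _).symm ?_
      refine (Finset.sum_subtype (Finset.univ.filter fun j => (σ j).isLeft) (fun j => by simp)
        _).trans (Finset.sum_congr rfl fun j _ => ?_)
      simp only [d', dif_pos j.2]
      rw [app_mres, hrow' j.1 j.2]
    rw [show (fun j => mres H k.op (row j)) = fun j => comb O H (N j) (fun c => mres H k.op (h' c))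
      from funext fun j => by rw [← hrow, mres_comb]; rfl, comb_comb] at e1
    have h0 : Matrix.vecMul d' N = 0 := hh'.2 k _ e1
    have h1 : d' = 0 := by
      rw [← Matrix.vecMul_one d', ← Matrix.mul_nonsing_inv N hN, ← Matrix.vecMul_vecMul, h0,
        Matrix.zero_vecMul]
    funext j
    have := congrFun h1 j.1
    simpa [d', j.2] using this

end Groth.Agent.FPLocal
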