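import Groth.Agent.ModTensor.Flat
import Mathlib.Algebra.Category.ModuleCat.Sheaf.Quasicoherent

/-!
# Tensor products of presented sheaves of modules
-/

set_option linter.style.haveILetI false
set_option linter.unusedSectionVars false
set_option backward.isDefEq.respectTransparency false
set_option backward.isDefEq.respectTransparency.types false

universe u

open CategoryTheory Limits Opposite

noncomputable section

namespace Groth.Agent.FPLocal

open ModTensor

variable {C : Type u} [SmallCategory C] {J : GrothendieckTopology C} (O : Sheaf J CommRingCat.{u})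

/-- Tensoring with a free module gives a coproduct of copies. -/
def tensFreeIso (A : ModSite.Mod O) (S : Type u) :
    tens O A (SheafOfModules.free S) ≅ ∐ fun _ : S => A :=
  PreservesCoproduct.iso ((ModSite.tensorBi O).obj A) (fun _ : S => ModSite.unit O) ≪≫
    Sigma.mapIso fun _ => (tensorUnitRight O).app A

/-- The tensor product of free modules is free. -/
def tensFreeFreeIso (S T : Type u) :
    tens O (SheafOfModules.free S) (SheafOfModules.free T) ≅
      SheafOfModules.free (R := ModSite.ringSh O) (Σ _ : T, S) :=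
  haveI : HasCoproducts.{u} (ModSite.Mod O) := fun _ => inferInstance
  tensFreeIso O (SheafOfModules.free S) T ≪≫
    sigmaSigmaIso (fun _ : T => S) fun _ _ => ModSite.unit O

variable {O} {A B : ModSite.Mod O}

/-- Generating sections of a tensor product. -/
def generatorsTens (σ : A.GeneratingSections) (τ : B.GeneratingSections) :
    (tens O A B).GeneratingSections where
  I := Σ _ : τ.I, σ.I
  s := SheafOfModules.freeHomEquiv _ ((tensFreeFreeIso O σ.I τ.I).inv ≫
    ((ModSite.tensorBi O).map σ.π).app (SheafOfModules.free τ.I) ≫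
      ((ModSite.tensorBi O).obj A).map τ.π)
  epi := by
    rw [Equiv.symm_apply_apply]
    haveI : Epi (((ModSite.tensorBi O).map σ.π).app (SheafOfModules.free τ.I)) :=
      inferInstanceAs (Epi (((ModSite.tensorBi O).flip.obj (SheafOfModules.free τ.I)).map σ.π))
    haveI : PreservesFiniteColimits ((ModSite.tensorBi O).obj A) :=
      PreservesColimitsOfSize.preservesFiniteColimits _
    infer_instance

theorem generatorsTens_π (σ : A.GeneratingSections) (τ : B.GeneratingSections) :
    (generatorsTens σ τ).π = (tensFreeFreeIso O σ.I τ.I).inv ≫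
      ((ModSite.tensorBi O).map σ.π).app (SheafOfModules.free τ.I) ≫
        ((ModSite.tensorBi O).obj A).map τ.π :=
  Equiv.symm_apply_apply _ _

theorem isIso_generatorsTens (σ : A.GeneratingSections) (τ : B.GeneratingSections) [IsIso σ.π]
    [IsIso τ.π] : IsIso (generatorsTens σ τ).π := by
  rw [generatorsTens_π]
  haveI : IsIso (((ModSite.tensorBi O).map σ.π).app (SheafOfModules.free τ.I)) :=
    inferInstanceAs (IsIso (((ModSite.tensorBi O).flip.obj (SheafOfModules.free τ.I)).map σ.π))
  infer_instance

set_option maxHeartbeats 1200000 in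
/-- A tensor product of presented modules is presented. -/
theorem exists_presentation_tens (P : A.Presentation) (Q : B.Presentation) :
    ∃ T : (tens O A B).Presentation, (P.IsFinite → Q.IsFinite → T.IsFinite) := by
  let I := P.generators.I
  let I' := Q.generators.I
  let a := (SheafOfModules.freeHomEquiv _).symm P.relations.s ≫ kernel.ι P.generators.π
  let b := (SheafOfModules.freeHomEquiv _).symm Q.relations.s ≫ kernel.ι Q.generators.π
  let πA := P.generators.π
  let πB := Q.generators.π
  have wa : a ≫ πA = 0 := by simp [a, πA]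
  have wb : b ≫ πB = 0 := by simp [b, πB]
  let G := SheafOfModules.free (R := ModSite.ringSh O)
  let L := (ModSite.tensorBi O).flip
  let R := ModSite.tensorBi O
  let q₁ : tens O (G I) (G I') ⟶ tens O A (G I') := (L.obj (G I')).map πA
  let q₂ : tens O A (G I') ⟶ tens O A B := (R.obj A).map πB
  let r₁ : tens O (G P.relations.I) (G I') ⟶ tens O (G I) (G I') := (L.obj (G I')).map a
  let r₂ : tens O (G I) (G Q.relations.I) ⟶ tens O (G I) (G I') := (R.obj (G I)).map b
  let e := tensFreeFreeIso O I I'
  let f : G ((Σ _ : I', P.relations.I) ⊕ (Σ _ : Q.relations.I, I)) ⟶ G (Σ _ : I', I) :=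
    (SheafOfModules.freeSumIso _ _).inv ≫
      coprod.desc ((tensFreeFreeIso O P.relations.I I').inv ≫ r₁ ≫ e.hom)
        ((tensFreeFreeIso O I Q.relations.I).inv ≫ r₂ ≫ e.hom)
  let g : G (Σ _ : I', I) ⟶ tens O A B := e.inv ≫ q₁ ≫ q₂
  have w₁ : r₁ ≫ q₁ = 0 := by
    show (L.obj (G I')).map a ≫ (L.obj (G I')).map πA = 0
    rw [← (L.obj (G I')).map_comp, wa, Functor.map_zero]
  haveI : PreservesFiniteColimits (R.obj A) := PreservesColimitsOfSize.preservesFiniteColimits _
  have w₂ : (R.obj A).map b ≫ q₂ = 0 := by
    show (R.obj A).map b ≫ (R.obj A).map πB = 0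
    rw [← (R.obj A).map_comp, wb, Functor.map_zero]
  have hex : r₂ ≫ q₁ = (L.obj (G Q.relations.I)).map πA ≫ (R.obj A).map b :=
    (ModTensor.tensor_exchange O πA b).symm
  have w : f ≫ g = 0 := by
    rw [← cancel_epi (SheafOfModules.freeSumIso _ _).hom]
    refine coprod.hom_ext ?_ ?_
    · simp only [f, g, Category.assoc, Iso.hom_inv_id_assoc, coprod.inl_desc_assoc, comp_zero]
      rw [reassoc_of% w₁]; simp
    · simp only [f, g, Category.assoc, Iso.hom_inv_id_assoc, coprod.inr_desc_assoc, comp_zero]
      rw [reassoc_of% hex, w₂]; simp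
  have c₁ : IsColimit (CokernelCofork.ofπ q₁ w₁) :=
    isColimitCoforkMapOfIsColimit' (L.obj (G I')) wa P.isColimit
  have c₂ : IsColimit (CokernelCofork.ofπ q₂ w₂) :=
    isColimitCoforkMapOfIsColimit' (R.obj A) wb Q.isColimit
  haveI : Epi q₁ := epi_of_isColimit_cofork c₁
  haveI : Epi q₂ := epi_of_isColimit_cofork c₂
  haveI : Epi ((L.obj (G Q.relations.I)).map πA) := inferInstance
  have hdesc : ∀ {Z : ModSite.Mod O} (h : G (Σ _ : I', I) ⟶ Z), f ≫ h = 0 →
      ∃ l : tens O A B ⟶ Z, g ≫ l = h := fun {Z} h hh => by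
    have h0 := congrArg (fun k => (SheafOfModules.freeSumIso _ _).hom ≫ k) hh
    simp only [f, Category.assoc, Iso.hom_inv_id_assoc, comp_zero] at h0
    have h1 : r₁ ≫ (e.hom ≫ h) = 0 := by
      have h' := congrArg (fun k => coprod.inl ≫ k) h0
      simp only [coprod.inl_desc_assoc, Category.assoc, comp_zero] at h'
      rw [← cancel_epi (tensFreeFreeIso O P.relations.I I').inv, h', comp_zero]
    have h2 : r₂ ≫ (e.hom ≫ h) = 0 := by
      have h' := congrArg (fun k => coprod.inr ≫ k) h0
      simp only [coprod.inr_desc_assoc, Category.assoc, comp_zero] at h'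
      rw [← cancel_epi (tensFreeFreeIso O I Q.relations.I).inv, h', comp_zero]
    let l₁ := c₁.desc (CokernelCofork.ofπ _ h1)
    have hl₁ : q₁ ≫ l₁ = e.hom ≫ h :=
      c₁.fac (CokernelCofork.ofπ _ h1) WalkingParallelPair.one
    have h3 : (R.obj A).map b ≫ l₁ = 0 := by
      rw [← cancel_epi ((L.obj (G Q.relations.I)).map πA), ← Category.assoc, ← hex,
        Category.assoc, hl₁, h2, comp_zero]
    refine ⟨c₂.desc (CokernelCofork.ofπ _ h3), ?_⟩
    have hl₂ : q₂ ≫ c₂.desc (CokernelCofork.ofπ _ h3) = l₁ :=
      c₂.fac (CokernelCofork.ofπ _ h3) WalkingParallelPair.one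
    simp only [g, Category.assoc]
    rw [hl₂, hl₁, Iso.inv_hom_id_assoc]
  haveI : Epi g := inferInstance
  have hc : IsColimit (CokernelCofork.ofπ g w) :=
    CokernelCofork.IsColimit.ofπ g w (fun h hh => (hdesc h hh).choose)
      (fun h hh => (hdesc h hh).choose_spec)
      (fun h hh m hm => by rw [← cancel_epi g, hm, (hdesc h hh).choose_spec])
  refine ⟨SheafOfModules.presentationOfIsCokernelFree f g w hc, fun hP hQ => ?_⟩
  exact { isFiniteType_generators := ⟨inferInstanceAs (Finite (Σ _ : I', I))⟩
          isFiniteType_relations :=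
            ⟨inferInstanceAs (Finite ((Σ _ : I', P.relations.I) ⊕ (Σ _ : Q.relations.I, I)))⟩ }

end Groth.Agent.FPLocal
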