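import Groth.Agent.FPLocal.TensorFree
import Groth.Agent.FPLocal.Basic
import Groth.Agent.SiteBase.Projection
import Mathlib.Algebra.Category.ModuleCat.Sheaf.LocallyFree

/-!
# Tensor products preserve local generation, presentation and freeness
-/

set_option linter.style.haveILetI false
set_option linter.unusedSectionVars false
set_option backward.isDefEq.respectTransparency false
set_option backward.isDefEq.respectTransparency.types false

universe u

open CategoryTheory Limits Opposite

noncomputable section

namespace Groth.Agent.FPLocal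

open ModTensor

variable {C : Type u} [SmallCategory C] {J : GrothendieckTopology C} {O : Sheaf J CommRingCat.{u}}
  {F G : ModSite.Mod O}

/-- Local generators of a tensor product. -/
def gensTensOver {V : C} (σ : ((ModSite.restr O V).obj F).GeneratingSections)
    (τ : ((ModSite.restr O V).obj G).GeneratingSections) :
    ((ModSite.restr O V).obj (tens O F G)).GeneratingSections :=
  (generatorsTens (O := O.over V) σ τ).ofEpi (SiteBase.ExtZeroPre.restrTensorIso O V F G).inv

theorem isIso_gensTensOver {V : C} (σ : ((ModSite.restr O V).obj F).GeneratingSections)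
    (τ : ((ModSite.restr O V).obj G).GeneratingSections) (hσ : IsIso σ.π) (hτ : IsIso τ.π) :
    IsIso (gensTensOver σ τ).π := by
  haveI := isIso_generatorsTens (O := O.over V) σ τ
  rw [gensTensOver, SheafOfModules.GeneratingSections.ofEpi_π]
  infer_instance

theorem isIso_generatorsRestr {M : ModSite.Mod O} {V X : C} (f : V ⟶ X)
    (σ : (SheafOfModules.over M X).GeneratingSections) (hσ : IsIso σ.π) :
    IsIso (generatorsRestr M f σ).π := by
  rw [generatorsRestr, SheafOfModules.GeneratingSections.ofEpi_π,
    SheafOfModules.GeneratingSections.map_π_eq]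
  haveI := hσ
  haveI : IsIso ((SheafOfModules.overMap (ModSite.ringSh O) f).map σ.π) :=
    Functor.map_isIso _ _
  haveI : IsIso ((SheafOfModules.overFunctorMap (ModSite.ringSh O) f).hom.app M) :=
    (SheafOfModules.overFunctorMap (ModSite.ringSh O) f).app M |>.isIso_hom
  exact IsIso.comp_isIso' (IsIso.comp_isIso' inferInstance inferInstance) inferInstance

/-- Merging two covers on which properties hold. -/
theorem coversTop_both {P Q : C → Prop} (hP : ∀ ⦃V W : C⦄, (V ⟶ W) → P W → P V)
    (hQ : ∀ ⦃V W : C⦄, (V ⟶ W) → Q W → Q V) {ι κ : Type u} {X : ι → C} {Y : κ → C}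
    (hX : J.CoversTop X) (hY : J.CoversTop Y) (hX' : ∀ i, P (X i)) (hY' : ∀ j, Q (Y j)) :
    J.CoversTop (fun v : {V : C // P V ∧ Q V} => v.1) := fun W => by
  refine J.superset_covering (fun V g hg => ?_) (J.intersection_covering (hX W) (hY W))
  obtain ⟨i, ⟨a⟩⟩ := (Sieve.mem_ofObjects_iff ..).mp hg.1
  obtain ⟨j, ⟨b⟩⟩ := (Sieve.mem_ofObjects_iff ..).mp hg.2
  exact (Sieve.mem_ofObjects_iff ..).mpr ⟨⟨V, hP a (hX' i), hQ b (hY' j)⟩, ⟨𝟙 V⟩⟩

/-- A finite family of generators, an isomorphism, a presentation or a finite presentation. -/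
theorem localGeneratorsData_tens {p : ∀ (V : C) (M : ModSite.Mod O),
      (SheafOfModules.over M V).GeneratingSections → Prop}
    (hp : ∀ ⦃V W : C⦄ (f : V ⟶ W) (M : ModSite.Mod O) σ, p W M σ → p V M (generatorsRestr M f σ))
    (hp' : ∀ (V : C) σ τ, p V F σ → p V G τ → p V (tens O F G) (gensTensOver σ τ))
    (q : SheafOfModules.LocalGeneratorsData.{u, u, u, u} F)
    (q' : SheafOfModules.LocalGeneratorsData.{u, u, u, u} G)
    (hq : ∀ i, p _ F (q.generators i)) (hq' : ∀ i, p _ G (q'.generators i)) :
    ∃ r : SheafOfModules.LocalGeneratorsData.{u, u, u, u} (tens O F G),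
      ∀ i, p _ (tens O F G) (r.generators i) := by
  let P : C → Prop := fun V => ∃ σ, p V F σ
  let Q : C → Prop := fun V => ∃ σ, p V G σ
  let r : SheafOfModules.LocalGeneratorsData.{u, u, u, u} (tens O F G) :=
    { I := {V : C // P V ∧ Q V}
      X := fun v => v.1
      coversTop := coversTop_both (fun V W f ⟨σ, h⟩ => ⟨_, hp f F σ h⟩)
        (fun V W f ⟨σ, h⟩ => ⟨_, hp f G σ h⟩) q.coversTop q'.coversTop
        (fun i => ⟨_, hq i⟩) (fun i => ⟨_, hq' i⟩)
      generators := fun v => gensTensOver v.2.1.choose v.2.2.choose }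
  exact ⟨r, fun v => hp' _ _ _ v.2.1.choose_spec v.2.2.choose_spec⟩

/-- Local presentations of a tensor product. -/
theorem quasicoherentData_tens {p : ∀ (V : C) (M : ModSite.Mod O),
      (SheafOfModules.over M V).Presentation → Prop}
    (hp : ∀ ⦃V W : C⦄ (f : V ⟶ W) (M : ModSite.Mod O) σ, p W M σ → p V M (presentationRestr M f σ))
    (hp' : ∀ (V : C) σ τ, p V F σ → p V G τ → ∃ ρ, p V (tens O F G) ρ)
    (q : SheafOfModules.QuasicoherentData.{u, u, u, u} F)
    (q' : SheafOfModules.QuasicoherentData.{u, u, u, u} G)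
    (hq : ∀ i, p _ F (q.presentation i)) (hq' : ∀ i, p _ G (q'.presentation i)) :
    ∃ r : SheafOfModules.QuasicoherentData.{u, u, u, u} (tens O F G),
      ∀ i, p _ (tens O F G) (r.presentation i) := by
  let P : C → Prop := fun V => ∃ σ, p V F σ
  let Q : C → Prop := fun V => ∃ σ, p V G σ
  let r : SheafOfModules.QuasicoherentData.{u, u, u, u} (tens O F G) :=
    { I := {V : C // P V ∧ Q V}
      X := fun v => v.1
      coversTop := coversTop_both (fun V W f ⟨σ, h⟩ => ⟨_, hp f F σ h⟩)
        (fun V W f ⟨σ, h⟩ => ⟨_, hp f G σ h⟩) q.coversTop q'.coversTop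
        (fun i => ⟨_, hq i⟩) (fun i => ⟨_, hq' i⟩)
      presentation := fun v =>
        (hp' v.1 _ _ v.2.1.choose_spec v.2.2.choose_spec).choose }
  exact ⟨r, fun v => (hp' v.1 _ _ v.2.1.choose_spec v.2.2.choose_spec).choose_spec⟩

theorem exists_presentation_restr_tens {V : C}
    (P : (SheafOfModules.over F V).Presentation) (Q : (SheafOfModules.over G V).Presentation) :
    ∃ T : (SheafOfModules.over (tens O F G) V).Presentation,
      (P.IsFinite → Q.IsFinite → T.IsFinite) := by
  obtain ⟨T, hT⟩ := exists_presentation_tens (O := O.over V)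
    (A := (ModSite.restr O V).obj F) (B := (ModSite.restr O V).obj G) P Q
  let e := (SiteBase.ExtZeroPre.restrTensorIso O V F G).inv
  exact ⟨T.ofIsIso e, fun hP hQ => by haveI := hT hP hQ; infer_instance⟩

set_option maxHeartbeats 800000 in
theorem tensor_permanence (F G : ModSite.Mod O) :
    (Nonempty (SheafOfModules.LocalGeneratorsData.{u, u, u, u} F) →
        Nonempty (SheafOfModules.LocalGeneratorsData.{u, u, u, u} G) →
          Nonempty (SheafOfModules.LocalGeneratorsData.{u, u, u, u} (tens O F G))) ∧
      (SheafOfModules.IsFiniteType (R := ModSite.ringSh O) F →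
        SheafOfModules.IsFiniteType (R := ModSite.ringSh O) G →
        SheafOfModules.IsFiniteType (R := ModSite.ringSh O) (tens O F G)) ∧
      (SheafOfModules.IsQuasicoherent (R := ModSite.ringSh O) F →
        SheafOfModules.IsQuasicoherent (R := ModSite.ringSh O) G →
        SheafOfModules.IsQuasicoherent (R := ModSite.ringSh O) (tens O F G)) ∧
      (SheafOfModules.IsFinitePresentation (R := ModSite.ringSh O) F →
        SheafOfModules.IsFinitePresentation (R := ModSite.ringSh O) G →
        SheafOfModules.IsFinitePresentation (R := ModSite.ringSh O) (tens O F G)) ∧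
      (SheafOfModules.IsLocallyFree (R := ModSite.ringSh O) F →
        SheafOfModules.IsLocallyFree (R := ModSite.ringSh O) G →
        SheafOfModules.IsLocallyFree (R := ModSite.ringSh O) (tens O F G)) := by
  refine ⟨?_, ?_, ?_, ?_, ?_⟩
  · rintro ⟨q⟩ ⟨q'⟩
    obtain ⟨r, -⟩ := localGeneratorsData_tens (O := O) (F := F) (G := G) (p := fun _ _ _ => True)
      (fun _ _ _ _ _ _ => trivial) (fun _ _ _ _ _ => trivial) q q' (fun _ => trivial) (fun _ => trivial)
    exact ⟨r⟩
  · rintro ⟨q, hq⟩ ⟨q', hq'⟩
    obtain ⟨r, hr⟩ := localGeneratorsData_tens (O := O) (F := F) (G := G) (p := fun _ _ σ => Finite σ.I)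
      (fun V W f M σ h => h) (fun V σ τ h h' => by
        haveI := h; haveI := h'
        exact inferInstanceAs (Finite (Σ _ : τ.I, σ.I)))
      q q' (fun i => (hq.isFiniteType i).finite) (fun i => (hq'.isFiniteType i).finite)
    refine { exists_localGeneratorsData := ?_ }
    refine ⟨r, ?_⟩
    constructor
    exact fun i => { finite := hr i }
  · rintro ⟨⟨q⟩⟩ ⟨⟨q'⟩⟩
    obtain ⟨r, -⟩ := quasicoherentData_tens (O := O) (F := F) (G := G) (p := fun _ _ _ => True)
      (fun _ _ _ _ _ _ => trivial)
      (fun V σ τ _ _ => ⟨(exists_presentation_restr_tens σ τ).choose, trivial⟩)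
      q q' (fun _ => trivial) (fun _ => trivial)
    refine { nonempty_quasicoherentData := ?_ }
    exact ⟨r⟩
  · rintro ⟨q, hq⟩ ⟨q', hq'⟩
    obtain ⟨r, hr⟩ := quasicoherentData_tens (O := O) (F := F) (G := G) (p := fun _ _ σ => σ.IsFinite)
      (fun V W f M σ h => by haveI := h; exact presentationRestr_isFinite M f σ)
      (fun V σ τ h h' => ⟨(exists_presentation_restr_tens σ τ).choose,
        (exists_presentation_restr_tens σ τ).choose_spec h h'⟩)
      q q' (fun i => hq.isFinite_presentation i) (fun i => hq'.isFinite_presentation i)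
    refine { exists_quasicoherentData := ?_ }
    refine ⟨r, ?_⟩
    constructor
    exact hr
  · rintro ⟨q, hq⟩ ⟨q', hq'⟩
    obtain ⟨r, hr⟩ := localGeneratorsData_tens (O := O) (F := F) (G := G) (p := fun _ _ σ => IsIso σ.π)
      (fun V W f M σ h => isIso_generatorsRestr f σ h)
      (fun V σ τ h h' => isIso_gensTensOver σ τ h h')
      q q' (fun i => hq.isIso i) (fun i => hq'.isIso i)
    refine { exists_isLocallyFreeData := ?_ }
    refine ⟨r, ?_⟩
    constructor
    exact hr

end Groth.Agent.FPLocal
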